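import Cfsg.Agent.Mrg.Omega.IId.Ns.Half

section


/-!
# NO-3L box R, THEOREM K: `k ≥ 2` natural blocks, `q > 2`: the two halves of the blocks

`M : NatK F S P (zl S P) (cv S P) k`. `Hf M S₁ J` : `S₁` has index 2 in `S`, `J` and its complement are the two orbits of
`S₁` on the blocks.
-/

set_option autoImplicit false
set_option linter.unusedSectionVars false

namespace Cfsg.Agent.Omega.NOThreeL.KTwo.Defs

open Subgroup Cfsg Cfsg.Agent.ZN Cfsg.Agent.Omega.MinPar
open Cfsg.Agent.Omega.FrameFF Cfsg.Agent.Omega.FFThm Cfsg.Agent.Lib.SL2Mat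
open Cfsg.Agent.Omega.IId.Ns
open scoped Pointwise

universe u

variable {G : Type u} [Group G] {F : Type} [Field F]

/-- `S₁` has index 2 in `S` and the two orbits `J`, `¬ J` on the blocks. -/
structure Hf {S P : Subgroup G} {k : ℕ} (M : NatK F S P (zl S P) (cv S P) k) (S₁ : Subgroup G)
    (J : Fin k → Prop) : Prop where
  le : S₁ ≤ S
  two : ∀ a ∈ S, ∀ b ∈ S, a ∉ S₁ → b ∉ S₁ → a⁻¹ * b ∈ S₁
  ne : ∃ s ∈ S, s ∉ S₁
  stab : ∀ s ∈ S₁, ∀ i j, Mv M s i j → (J i ↔ J j)
  swap : ∀ s ∈ S, s ∉ S₁ → ∀ i j, Mv M s i j → (J i ↔ ¬ J j)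
  trans : ∀ i j, J i → J j → ∃ s ∈ S₁, Mv M s i j
  transN : ∀ i j, ¬ J i → ¬ J j → ∃ s ∈ S₁, Mv M s i j
  ex : ∃ i, J i
  exN : ∃ i, ¬ J i

theorem Hf.symm {S P : Subgroup G} {k : ℕ} {M : NatK F S P (zl S P) (cv S P) k} {S₁ : Subgroup G}
    {J : Fin k → Prop} (Q : Hf M S₁ J) : Hf M S₁ (fun i => ¬ J i) where
  le := Q.le
  two := Q.two
  ne := Q.ne
  stab s hs i j h := not_congr (Q.stab s hs i j h)
  swap s hs hs1 i j h := by
    have := Q.swap s hs hs1 i j h
    tauto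
  trans i j hi hj := Q.transN i j hi hj
  transN i j hi hj := Q.trans i j (not_not.1 hi) (not_not.1 hj)
  ex := Q.exN
  exN := by
    obtain ⟨i, hi⟩ := Q.ex
    exact ⟨i, not_not.2 hi⟩

/-- HALF, as a proposition: `H` of characteristic 2, `S₁ ≤ H`, `H` contains lifts of all `SL₂(F)_l`, `l ∈ J` ==>
`N_l ≤ Ω₁(Z(O₂(H)))`, `l ∈ J`. -/
def HALF {S P : Subgroup G} {k : ℕ} (M : NatK F S P (zl S P) (cv S P) k) (S₁ : Subgroup G) (J : Fin k → Prop) :
    Prop :=
  ∀ H : Subgroup G, S₁ ≤ H → (∀ l, J l → ∀ B, ∃ x ∈ H, Al M l x B) → H ⊓ centralizer (o2 H : Set G) ≤ o2 H →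
    ∀ l, J l → Nc M l ≤ zc (o2 H)

/-- `x` is good for the blocks in `J`: the conjugates of `N_l`, `l ∈ J`, under `C_G(x)` commute. -/
def Good {S P : Subgroup G} {k : ℕ} (M : NatK F S P (zl S P) (cv S P) k) (J : Fin k → Prop) (x : G) : Prop :=
  ∀ l, J l → ∀ g ∈ centralizer ({x} : Set G), Nc M l ≤ centralizer ((MulAut.conj g • Nc M l : Subgroup G) : Set G)

end Cfsg.Agent.Omega.NOThreeL.KTwo.Defs

end

section


/-!
# NO-3L box R, THEOREM K: the averages `e_L` over the tori of the blocks in `L`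

`A = Ω₁(Z(O₂(P)))`, `eA S M i` (882) the projection on the vectors fixed by the torus of the `i`-th block.
`eL S M L` (`L` a list of blocks) the product of the `eA S M i`, `i ∈ L`:

* `eL_perm`, `eL_comm`, `eL_idem`, `eL_VA`, `eL_fix`, `eL_one` ;
* `Fx S M a` : `a` is fixed by all `up c` in all blocks; `eL_conj` : `g (e_L a) = e_{σ L} (g a)` for `g ∈ S`;
* `eL_coord`, `eL_V` : `(1 - e_L) (1 - e_L') = 0` on `V` if `L`, `L'` are disjoint;
* `eJ S M J` : the list of the blocks in `J`; **`claim`** : `f ∈ Ω₁(Z(S₁))`, `e_J f = 1` ⟹ `f ∈ V`.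
-/

set_option autoImplicit false
set_option linter.unusedSectionVars false

namespace Cfsg.Agent.Omega.NOThreeL.KTwo.Defs

open Subgroup Cfsg Cfsg.Agent.ZN Cfsg.Agent.Omega.MinPar
open Cfsg.Agent.Omega.FrameFF Cfsg.Agent.Omega.FFThm Cfsg.Agent.Lib.SL2Mat
open Cfsg.Agent.Omega.NatPair (ap ap_add ap_mul ap_one ap_inj ext2 ap_zero' ap_one' ap_inv_ap ap_ap_inv)
open Cfsg.Agent.Omega.HOne (cv_le conj_mem_zl conj_mem_cv)
open Cfsg.Agent.Omega.IId.Cv
open Cfsg.Agent.Omega.IId.Ns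
open Cfsg.Agent.MinSimple.VModule (zc_comm zc_sq zc_le mem_zc le_normalizer_o2 normalizer_le_normalizer_zc zc_le_zl
  o2_isPGroup o2_le mem_normalizer_of_map_le)

universe u

variable {G : Type u} [Group G] {F : Type} [Field F]

attribute [local instance] aqComm

section avg

variable [Finite G] [CharP F 2] (hG : IsCharacteristicTwoType G) (S : Sylow 2 G) {P : Subgroup G}
  (h : IsParS (S : Subgroup G) P) {k : ℕ} (hk : 0 < k)
  (M : NatK F (S : Subgroup G) P (zl (S : Subgroup G) P) (cv (S : Subgroup G) P) k)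

/-- `a` is fixed by the root groups of all blocks -/
def Fx (a : ↥(zc (o2 P))) : Prop := ∀ (l : Fin k) (c : F), rh S M l (up c) a = a

variable [Fintype F] [DecidableEq F]

/-- the product of the `e_i`, `i ∈ L` -/
noncomputable def eL : List (Fin k) → (↥(zc (o2 P)) →* ↥(zc (o2 P)))
  | [] => MonoidHom.id _
  | i :: L => (eA S M i).comp (eL L)

theorem eL_nil (a : ↥(zc (o2 P))) : eL S M [] a = a := rfl

theorem eL_cons (i : Fin k) (L : List (Fin k)) (a : ↥(zc (o2 P))) : eL S M (i :: L) a = eA S M i (eL S M L a) := rfl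

include hG h hk in
theorem eA_comm' (i j : Fin k) (a : ↥(zc (o2 P))) : eA S M i (eA S M j a) = eA S M j (eA S M i a) := by
  by_cases hij : i = j
  · rw [hij]
  · exact eA_comm hG S h hk M hij a

include hG h hk in
theorem eA_eL (i : Fin k) (L : List (Fin k)) (a : ↥(zc (o2 P))) : eA S M i (eL S M L a) = eL S M L (eA S M i a) := by
  induction L with
  | nil => rfl
  | cons j L ih => rw [eL_cons, eL_cons, eA_comm' hG S h hk M, ih]

include hG h hk in
theorem eL_comm (L L' : List (Fin k)) (a : ↥(zc (o2 P))) : eL S M L (eL S M L' a) = eL S M L' (eL S M L a) := by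
  induction L with
  | nil => rfl
  | cons j L ih => rw [eL_cons, eL_cons, ih, eA_eL hG S h hk M]

include hG h hk in
theorem eL_idem (L : List (Fin k)) (a : ↥(zc (o2 P))) : eL S M L (eL S M L a) = eL S M L a := by
  induction L with
  | nil => rfl
  | cons j L ih =>
    rw [eL_cons, eL_cons, ← eA_eL hG S h hk M, ih, eA_idem hG S h hk M]

include hG h hk in
theorem eL_perm {L L' : List (Fin k)} (hL : L.Perm L') (a : ↥(zc (o2 P))) : eL S M L a = eL S M L' a := by
  induction hL with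
  | nil => rfl
  | cons i _ ih => rw [eL_cons, eL_cons, ih]
  | swap i j L => rw [eL_cons, eL_cons, eL_cons, eL_cons, eA_comm' hG S h hk M]
  | trans _ _ h1 h2 => rw [h1, h2]

theorem eL_VA (L : List (Fin k)) {a : ↥(zc (o2 P))} (ha : a ∈ VA S P) : eL S M L a ∈ VA S P := by
  induction L with
  | nil => exact ha
  | cons j L ih => exact eA_VA S M ih

theorem eL_fix {L : List (Fin k)} {a : ↥(zc (o2 P))} (ha : ∀ l ∈ L, ∀ B, rh S M l B a = a) : eL S M L a = a := by
  induction L with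
  | nil => rfl
  | cons j L ih =>
    rw [eL_cons, ih fun l hl => ha l (List.mem_cons_of_mem _ hl)]
    exact eA_of_fix S M (ha j List.mem_cons_self)

include hG h hk in
theorem eL_one {L : List (Fin k)} {i : Fin k} (hi : i ∈ L) {a : ↥(zc (o2 P))} (ha : eA S M i a = 1) :
    eL S M L a = 1 := by
  induction L with
  | nil => exact absurd hi List.not_mem_nil
  | cons j L ih =>
    rcases List.mem_cons.1 hi with rfl | hi
    · rw [eL_cons, eA_eL hG S h hk M, ha, map_one]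
    · rw [eL_cons, ih hi, map_one]

/-! ### Conjugation -/

include hG h hk in
theorem Fx_eA {a : ↥(zc (o2 P))} (ha : Fx S M a) (i : Fin k) : Fx S M (eA S M i a) := by
  intro l c
  rw [eA_apply, map_prod]
  refine Finset.prod_congr rfl fun m _ => ?_
  by_cases hl : l = i
  · subst hl
    have e1 : up c * dg (m : F) m.ne_zero = dg (m : F) m.ne_zero * up ((m : F)⁻¹ ^ 2 * c) := by
      have e2 := dg_up (m : F) ((m : F)⁻¹ ^ 2 * c) m.ne_zero
      rw [e2]
      have e3 : (m : F) ^ 2 * ((m : F)⁻¹ ^ 2 * c) = c := by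
        have := m.ne_zero
        field_simp
      rw [e3]
    rw [← rh_mul hG S h hk, e1, rh_mul hG S h hk, ha]
  · rw [rh_comm hG S h hk M hl, ha]

include hG h hk in
theorem Fx_eL {a : ↥(zc (o2 P))} (ha : Fx S M a) (L : List (Fin k)) : Fx S M (eL S M L a) := by
  induction L with
  | nil => exact ha
  | cons j L ih => exact Fx_eA hG S h hk M ih j

include hG h hk in
/-- `g (e_L a) = e_{σ L} (g a)` -/
theorem eL_conj {g : G} (hg : g ∈ (S : Subgroup G)) {σ : Fin k → Fin k} (hσ : ∀ i, Mv M g i (σ i))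
    {a : ↥(zc (o2 P))} (ha : Fx S M (cA (h.le hg) a)) (L : List (Fin k)) :
    cA (h.le hg) (eL S M L a) = eL S M (L.map σ) (cA (h.le hg) a) := by
  induction L with
  | nil => rfl
  | cons j L ih =>
    rw [eL_cons, List.map_cons, eL_cons, ← ih]
    refine eA_conj hG S h hk M hg (hσ j) fun c => ?_
    rw [ih]
    exact Fx_eL hG S h hk M ha _ _ c

/-! ### The module `V` -/

include hG h hk in
theorem eA_coord {i l : Fin k} (hl : l ≠ i) {v : ↥(zc (o2 P))} (hv : v ∈ VA S P) :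
    M.e ((eA S M i v : ↥(zc (o2 P))) : G) l = M.e (v : G) l := by
  -- `v * e_i v = ∏ (v * ..)`
  have h1 : v * eA S M i v = ∏ m : Fˣ, (v * rh S M i (dg (m : F) m.ne_zero) v) := by
    rw [Finset.prod_mul_distrib, prod_const_A, eA_apply]
  have key : ∀ s : Finset Fˣ, ((∏ m ∈ s, (v * rh S M i (dg (m : F) m.ne_zero) v) : ↥(zc (o2 P))) : G) ∈
      zl (S : Subgroup G) P ∧
      M.e ((∏ m ∈ s, (v * rh S M i (dg (m : F) m.ne_zero) v) : ↥(zc (o2 P))) : G) l = 0 := by
    intro s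
    induction s using Finset.induction_on with
    | empty =>
      rw [Finset.prod_empty]
      exact ⟨one_mem _, by
        change M.e 1 l = 0
        rw [e_one M]; rfl⟩
    | insert m s hm ih =>
      rw [Finset.prod_insert hm]
      have hV : ((v * rh S M i (dg (m : F) m.ne_zero) v : ↥(zc (o2 P))) : G) ∈ zl (S : Subgroup G) P :=
        (mem_VA S).1 (mul_mem hv (rh_VA S M i _ hv))
      refine ⟨mul_mem hV ih.1, ?_⟩
      change M.e (((v * rh S M i (dg (m : F) m.ne_zero) v : ↥(zc (o2 P))) : G) *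
        ((∏ m ∈ s, (v * rh S M i (dg (m : F) m.ne_zero) v) : ↥(zc (o2 P))) : G)) l = 0
      rw [M.mul _ hV _ ih.1, Pi.add_apply, ih.2, add_zero]
      change M.e ((v : G) * (rh S M i (dg (m : F) m.ne_zero) v : ↥(zc (o2 P)))) l = 0
      rw [rh_val hG S h hk M (lf_spec S M i _), M.mul _ ((mem_VA S).1 hv) _
        ((lf_spec S M i _).V ((mem_VA S).1 hv)), Pi.add_apply, (lf_spec S M i _).ne ((mem_VA S).1 hv) hl]
      funext x
      exact CharTwo.add_self_eq_zero _
  have h2 := (key Finset.univ).2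
  rw [← h1] at h2
  change M.e ((v : G) * ((eA S M i v : ↥(zc (o2 P))) : G)) l = 0 at h2
  rw [M.mul _ ((mem_VA S).1 hv) _ ((mem_VA S).1 (eA_VA S M hv)), Pi.add_apply] at h2
  funext x
  have h3 := congrFun h2 x
  rw [Pi.add_apply, Pi.zero_apply] at h3
  have htwo : (2 : F) = 0 := CharTwo.two_eq_zero
  linear_combination h3 - (M.e (v : G) l x) * htwo

include hG h hk in
theorem eL_coord {L : List (Fin k)} {l : Fin k} (hl : l ∉ L) {v : ↥(zc (o2 P))} (hv : v ∈ VA S P) :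
    M.e ((eL S M L v : ↥(zc (o2 P))) : G) l = M.e (v : G) l := by
  induction L with
  | nil => rfl
  | cons j L ih =>
    rw [List.mem_cons, not_or] at hl
    rw [eL_cons, eA_coord hG S h hk M hl.1 (eL_VA S M L hv), ih hl.2]

include hG h hk in
/-- a vector of `V` without `L`-coordinates is fixed by `e_L` -/
theorem eL_of_coord (hF : 4 ≤ Nat.card F) {L : List (Fin k)} {v : ↥(zc (o2 P))} (hv : v ∈ VA S P)
    (h0 : ∀ l ∈ L, M.e (v : G) l = 0) : eL S M L v = v := by
  refine eL_fix S M fun l hl B => Subtype.ext ?_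
  rw [rh_val hG S h hk M (lf_spec S M l B)]
  exact fix_ker hG S h hk hF (lf_spec S M l B) ((mem_VA S).1 hv) (h0 l hl)

include hG h hk in
/-- `(1 - e_L) (1 - e_L') = 0` on `V` -/
theorem eL_V (hF : 4 ≤ Nat.card F) {L L' : List (Fin k)} (hd : ∀ l ∈ L, l ∉ L') {v : ↥(zc (o2 P))}
    (hv : v ∈ VA S P) : v * eL S M L' v * (eL S M L v * eL S M L (eL S M L' v)) = 1 := by
  have h1 : eL S M L (v * eL S M L' v) = v * eL S M L' v := by
    refine eL_of_coord hG S h hk M hF (mul_mem hv (eL_VA S M L' hv)) fun l hl => ?_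
    change M.e ((v : G) * ((eL S M L' v : ↥(zc (o2 P))) : G)) l = 0
    rw [M.mul _ ((mem_VA S).1 hv) _ ((mem_VA S).1 (eL_VA S M L' hv)), Pi.add_apply,
      eL_coord hG S h hk M (hd l hl) hv]
    funext x
    exact CharTwo.add_self_eq_zero _
  rw [← map_mul, h1, A_sq]

include hG h in
/-- `z * e_i z ∈ N_i` for `z ∈ V` -/
theorem mul_eA_mem (hk : 0 < k) (i : Fin k) {z : ↥(zc (o2 P))} (hz : z ∈ VA S P) :
    ((z * eA S M i z : ↥(zc (o2 P))) : G) ∈ Nc M i := by
  have h1 : z * eA S M i z = ∏ l : Fˣ, (rh S M i (dg (l : F) l.ne_zero) z * z⁻¹) := by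
    rw [Finset.prod_mul_distrib, ← eA_apply, prod_const_A (F := F) (z⁻¹ : ↥(zc (o2 P))), A_inv, mul_comm]
  have h2 : z * eA S M i z ∈ (Nc M i).subgroupOf (zc (o2 P)) := by
    rw [h1]
    refine Subgroup.prod_mem _ fun l _ => ?_
    rw [mem_subgroupOf]
    show ((rh S M i (dg (l : F) l.ne_zero) z : ↥(zc (o2 P))) : G) * (z : G)⁻¹ ∈ Nc M i
    rw [rh_val hG S h hk M (lf_spec S M i _)]
    exact mem_Nc (lf_spec S M i _) ((mem_VA S).1 hz)
  exact mem_subgroupOf.1 h2

include hG h hk in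
/-- `y * e_L y` is in the product of the `N_l`, `l ∈ L` -/
theorem mul_eL_mem {K : Subgroup G} (L : List (Fin k)) (hL : ∀ l ∈ L, Nc M l ≤ K) {y : ↥(zc (o2 P))}
    (hy : y ∈ VA S P) : ((y * eL S M L y : ↥(zc (o2 P))) : G) ∈ K := by
  induction L with
  | nil =>
    rw [eL_nil, A_sq]
    exact one_mem _
  | cons j L ih =>
    have h1 := ih fun l hl => hL l (List.mem_cons_of_mem _ hl)
    have h2 := hL j List.mem_cons_self (mul_eA_mem hG S h M hk j (eL_VA S M L hy))
    have e : y * eL S M (j :: L) y = (y * eL S M L y) * (eL S M L y * eA S M j (eL S M L y)) := by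
      rw [eL_cons, mul_assoc, ← mul_assoc (eL S M L y) (eL S M L y), A_sq, one_mul]
    rw [e]
    exact mul_mem h1 h2

end avg

/-! ### The two halves -/

open Classical in
/-- the blocks in `J` -/
noncomputable def LJ {k : ℕ} (J : Fin k → Prop) : List (Fin k) := (List.finRange k).filter fun i => decide (J i)

theorem mem_LJ {k : ℕ} {J : Fin k → Prop} {i : Fin k} : i ∈ LJ J ↔ J i := by
  rw [LJ, List.mem_filter]
  simp

theorem nodup_LJ {k : ℕ} (J : Fin k → Prop) : (LJ J).Nodup := (List.nodup_finRange k).filter _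

section half

variable [Finite G] [CharP F 2] (hG : IsCharacteristicTwoType G) (S : Sylow 2 G) {P : Subgroup G}
  (h : IsParS (S : Subgroup G) P) {k : ℕ}
  {M : NatK F (S : Subgroup G) P (zl (S : Subgroup G) P) (cv (S : Subgroup G) P) k}
  {S₁ : Subgroup G} {J : Fin k → Prop} (Q : Hf M S₁ J)

include Q

omit [Finite G] [CharP F 2] in
theorem Hf.pos : 0 < k := by
  obtain ⟨i, -⟩ := Q.ex
  exact Nat.pos_of_ne_zero fun h => (h ▸ i).elim0

omit [Finite G] [CharP F 2] in
/-- elements of `S` which fix a block are in `S₁` -/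
theorem Hf.mem_of_Mv {t : G} (ht : t ∈ (S : Subgroup G)) {i : Fin k} (hm : Mv M t i i) : t ∈ S₁ := by
  by_contra h1
  have := Q.swap t ht h1 i i hm
  tauto

omit [Finite G] [CharP F 2] in
theorem Hf.Tc_le (i : Fin k) : Tc M i ≤ S₁ := fun _ ht => Q.mem_of_Mv S ht.1.1 ht.2

include h in
theorem Hf.exists_unip (i : Fin k) (c : F) : ∃ t ∈ S₁, Al M i t (up c) := by
  classical
  obtain ⟨t, ht, h1⟩ := M.unip (Function.update 0 i c)
  have e : (fun m => up ((Function.update (0 : Fin k → F) i c) m)) = one1 i (up c) := by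
    funext m
    by_cases hm : m = i
    · subst hm; rw [Function.update_self, one1_same]
    · rw [Function.update_of_ne hm, one1_ne hm, Pi.zero_apply, up_zero]
  rw [e] at h1
  have hA : Al M i t (up c) := ⟨h.le ht, h1⟩
  exact ⟨t, Q.mem_of_Mv S ht hA.mv, hA⟩

include hG h in
theorem Hf.o2_le : o2 P ≤ S₁ := by
  intro x hx
  obtain ⟨i, -⟩ := Q.ex
  refine Q.mem_of_Mv S ((h.isLoc.o2_le S) hx) (i := i) fun v hv => ?_
  have h1 : x * v = v * x := (mem_zc.1 (zl_le_A hG S h hv)).2.1 x hx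
  rw [h1, mul_inv_cancel_right]

include hG h in
theorem Hf.V_le : zl (S : Subgroup G) P ≤ S₁ := fun _ hx => Q.o2_le hG S h (zc_le _ (zl_le_A hG S h hx))

include h in
theorem Hf.le_P : S₁ ≤ P := Q.le.trans h.le

include hG h in
theorem Hf.zc_le : zc S₁ ≤ zc (o2 P) := by
  intro f hf
  obtain ⟨h1, h2, h3⟩ := mem_zc.1 hf
  have h4 : f ∈ o2 P :=
    h.isLoc.char2 S hG (mem_inf.2 ⟨Q.le_P S h h1, mem_centralizer_iff.2 fun x hx => h2 x (Q.o2_le hG S h hx)⟩)
  exact mem_zc.2 ⟨h4, fun x hx => h2 x (Q.o2_le hG S h hx), h3⟩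

omit [CharP F 2] in
theorem Hf.norm : (S : Subgroup G) ≤ normalizer (S₁ : Set G) :=
  IId.Two.le_normalizer_of fun _ hs _ ht => IId.Two.conj_mem_of_two Q.le Q.two hs ht

include hG h in
theorem Hf.fx {f : ↥(zc (o2 P))} (hf : (f : G) ∈ zc S₁) : Fx S M f := by
  intro l c
  obtain ⟨t, ht, hA⟩ := Q.exists_unip S h l c
  apply Subtype.ext
  rw [rh_val hG S h (Q.pos S) M hA, (mem_zc.1 hf).2.1 t ht, mul_inv_cancel_right]

variable [Fintype F] [DecidableEq F]

include hG h in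
/-- `g (e_J a) = e_J (g a)` for `g ∈ S₁` -/
theorem Hf.conj_eJ {g : G} (hg : g ∈ S₁) {a : ↥(zc (o2 P))} (ha : Fx S M (cA (h.le (Q.le hg)) a)) :
    cA (h.le (Q.le hg)) (eL S M (LJ J) a) = eL S M (LJ J) (cA (h.le (Q.le hg)) a) := by
  choose σ hσ using fun i => exists_Mv (M := M) (h.le (Q.le hg)) i
  rw [eL_conj hG S h (Q.pos S) M (Q.le hg) hσ ha]
  refine eL_perm hG S h (Q.pos S) M ?_ _
  have hinj : Function.Injective σ := fun i j hij => (hσ i).unique' (hij ▸ hσ j) (h.le (Q.le hg))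
  rw [List.perm_ext_iff_of_nodup ((nodup_LJ J).map hinj) (nodup_LJ J)]
  intro j
  rw [List.mem_map, mem_LJ]
  constructor
  · rintro ⟨i, hi, rfl⟩
    exact (Q.stab g hg i _ (hσ i)).1 (mem_LJ.1 hi)
  · intro hj
    obtain ⟨i, rfl⟩ := Finite.surjective_of_injective hinj j
    exact ⟨i, mem_LJ.2 ((Q.stab g hg i _ (hσ i)).2 hj), rfl⟩

include hG h in
/-- `g (e_J a) = e_J' (g a)` for `g ∈ S - S₁` -/
theorem Hf.swap_eJ {g : G} (hg : g ∈ (S : Subgroup G)) (hg1 : g ∉ S₁) {a : ↥(zc (o2 P))}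
    (ha : Fx S M (cA (h.le hg) a)) :
    cA (h.le hg) (eL S M (LJ J) a) = eL S M (LJ fun i => ¬ J i) (cA (h.le hg) a) := by
  choose σ hσ using fun i => exists_Mv (M := M) (h.le hg) i
  rw [eL_conj hG S h (Q.pos S) M hg hσ ha]
  refine eL_perm hG S h (Q.pos S) M ?_ _
  have hinj : Function.Injective σ := fun i j hij => (hσ i).unique' (hij ▸ hσ j) (h.le hg)
  rw [List.perm_ext_iff_of_nodup ((nodup_LJ J).map hinj) (nodup_LJ _)]
  intro j
  rw [List.mem_map, mem_LJ]
  constructor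
  · rintro ⟨i, hi, rfl⟩
    exact (Q.swap g hg hg1 i _ (hσ i)).1 (mem_LJ.1 hi)
  · intro hj
    obtain ⟨i, rfl⟩ := Finite.surjective_of_injective hinj j
    exact ⟨i, mem_LJ.2 ((Q.swap g hg hg1 i _ (hσ i)).2 hj), rfl⟩

include hG h in
/-- **CLAIM** -/
theorem Hf.claim (hF : 4 ≤ Nat.card F) {f : ↥(zc (o2 P))} (hf : (f : G) ∈ zc S₁) (he : eL S M (LJ J) f = 1) :
    f ∈ VA S P := by
  obtain ⟨s, hs, hs1⟩ := Q.ne
  have hsP := h.le hs
  have hk := Q.pos S
  have hnT := Q.norm S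
  have hdis : ∀ l ∈ LJ J, l ∉ LJ fun i => ¬ J i := fun l hl hl' => mem_LJ.1 hl' (mem_LJ.1 hl)
  -- `s f`
  set sf := cA hsP f with hsf
  have hsfT : (sf : G) ∈ zc S₁ := (mem_normalizer_iff.1 (normalizer_le_normalizer_zc _ (hnT hs)) _).1 hf
  have hfu := Q.fx hG S h hf
  have hsu := Q.fx hG S h hsfT
  have hci : cA hsP (eL S M (LJ J) f) = eL S M (LJ fun i => ¬ J i) sf := Q.swap_eJ hG S h hs hs1 hsu
  have hcj : cA hsP (eL S M (LJ fun i => ¬ J i) f) = eL S M (LJ J) sf := by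
    have h1 := Q.symm.swap_eJ hG S h hs hs1 hsu
    have h2 : (LJ fun i => ¬ ¬ J i) = LJ J := congrArg LJ (funext fun i => by simp)
    rwa [h2] at h1
  rw [he, map_one] at hci
  -- an element of `A` fixed by `S₁` and `s` lies in `V`
  have hfix : ∀ a : ↥(zc (o2 P)), (∀ t ∈ S₁, t * (a : G) = a * t) → cA hsP a = a → a ∈ VA S P := by
    intro a h1 h2
    rw [mem_VA]
    apply zc_le_zl
    rw [mem_zc]
    refine ⟨(h.isLoc.o2_le S) (Cfsg.Agent.MinSimple.VModule.zc_le _ a.2), fun g hg => ?_, zc_sq _ _ a.2⟩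
    have h3 : s * (a : G) = a * s := by
      have := congrArg Subtype.val h2
      rw [cA_val] at this
      exact mul_inv_eq_iff_eq_mul.1 this
    by_cases h4 : g ∈ S₁
    · exact h1 g h4
    · have h5 := Q.two s hs g hg hs1 h4
      have h6 := h1 _ h5
      calc g * (a : G) = s * (s⁻¹ * g * a) := by group
        _ = s * (a * (s⁻¹ * g)) := by rw [h6]
        _ = (s * a) * (s⁻¹ * g) := by group
        _ = a * g := by rw [h3]; group
  have hTf : ∀ t ∈ S₁, t * (f : G) = f * t := fun t ht => (mem_zc.1 hf).2.1 t ht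
  have hTsf : ∀ t ∈ S₁, t * (sf : G) = sf * t := fun t ht => (mem_zc.1 hsfT).2.1 t ht
  -- `s (s f) = f`
  have hss : cA hsP sf = f := by
    have h1 : s * s ∈ S₁ := by
      have := Q.two s⁻¹ (inv_mem hs) s hs (fun h4 => hs1 (inv_mem_iff.1 h4)) hs1
      rwa [inv_inv] at this
    apply Subtype.ext
    rw [cA_val, hsf, cA_val]
    calc s * (s * (f : G) * s⁻¹) * s⁻¹ = (s * s) * f * (s * s)⁻¹ := by group
      _ = f := by rw [hTf _ h1, mul_inv_cancel_right]
  -- `p = f · s f`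
  have hp : f * sf ∈ VA S P := by
    apply hfix
    · intro t ht
      show t * ((f : G) * sf) = (f : G) * sf * t
      rw [← mul_assoc, hTf t ht, mul_assoc, hTsf t ht, ← mul_assoc]
    · rw [map_mul, hss, ← hsf, mul_comm]
  have hpe := eL_V hG S h hk M hF hdis hp
  have hejp : eL S M (LJ fun i => ¬ J i) (f * sf) = eL S M (LJ fun i => ¬ J i) f := by rw [map_mul, ← hci, mul_one]
  have hij1 : eL S M (LJ J) (eL S M (LJ fun i => ¬ J i) f) = 1 := by rw [eL_comm hG S h hk M, he, map_one]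
  rw [hejp, hij1, mul_one, map_mul, he, one_mul] at hpe
  -- `c = f · e_J' f`
  have hc : f * eL S M (LJ fun i => ¬ J i) f ∈ VA S P := by
    apply hfix
    · intro t ht
      have htf : cA (h.le (Q.le ht)) f = f := by
        apply Subtype.ext
        rw [cA_val, hTf t ht, mul_inv_cancel_right]
      have h1 := Q.symm.conj_eJ hG S h ht (a := f) (by rw [htf]; exact hfu)
      rw [htf] at h1
      have h2 : t * ((eL S M (LJ fun i => ¬ J i) f : ↥(zc (o2 P))) : G) =
          (eL S M (LJ fun i => ¬ J i) f : ↥(zc (o2 P))) * t := by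
        have := congrArg Subtype.val h1
        rw [cA_val] at this
        exact mul_inv_eq_iff_eq_mul.1 this
      show t * ((f : G) * (eL S M (LJ fun i => ¬ J i) f : ↥(zc (o2 P)))) =
        (f : G) * (eL S M (LJ fun i => ¬ J i) f : ↥(zc (o2 P))) * t
      rw [← mul_assoc, hTf t ht, mul_assoc, h2, ← mul_assoc]
    · rw [map_mul, hcj, ← hsf]
      -- `(f e_J' f) (s f e_J (s f)) = 1`
      have h1 : (f * eL S M (LJ fun i => ¬ J i) f) * (sf * eL S M (LJ J) sf) = 1 := by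
        rw [← hpe]
        simp only [mul_comm, mul_left_comm]
      rw [← A_inv (f * eL S M (LJ fun i => ¬ J i) f)]
      exact eq_inv_of_mul_eq_one_right h1
  have hce := eL_V hG S h hk M hF hdis hc
  have hejc : eL S M (LJ fun i => ¬ J i) (f * eL S M (LJ fun i => ¬ J i) f) = 1 := by
    rw [map_mul, eL_idem hG S h hk M, A_sq]
  rw [hejc, map_one, mul_one, mul_one, map_mul, he, hij1, mul_one, mul_one] at hce
  -- `f = e_J' f`
  have hfe : f = eL S M (LJ fun i => ¬ J i) f := by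
    rw [← A_inv (eL S M (LJ fun i => ¬ J i) f)]
    exact eq_inv_of_mul_eq_one_left hce
  rw [hfe, ← hejp]
  exact eL_VA S M _ hp

end half

end Cfsg.Agent.Omega.NOThreeL.KTwo.Defs

end

section


/-!
# NO-3L box R, THEOREM K: `k ≥ 2`: the two halves exist

* `exists_card` : `T < S`, `S` a 2-group: `T ≤ S₁ ≤ S` with `|S : S₁| = 2`;
* **`exists_hf`** : `2 ≤ k`: for every block `i` there are `S₁`, `J` with `Hf M S₁ J` and `J i`.
-/

set_option autoImplicit false
set_option linter.unusedSectionVars false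

namespace Cfsg.Agent.Omega.NOThreeL.KTwo.Defs

open Subgroup Cfsg Cfsg.Agent.ZN Cfsg.Agent.Omega.MinPar
open Cfsg.Agent.Omega.FrameFF Cfsg.Agent.Omega.FFThm Cfsg.Agent.Lib.SL2Mat
open Cfsg.Agent.Omega.IId.Ns
open scoped Pointwise

universe u

variable {G : Type u} [Group G] {F : Type} [Field F]

/-- a proper subgroup of a 2-group is contained in a subgroup of index 2 -/
theorem exists_card [Finite G] {T S : Subgroup G} (hS : IsPGroup 2 S) (hT : T ≤ S) (hne : T ≠ S) :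
    ∃ S₁ : Subgroup G, T ≤ S₁ ∧ S₁ ≤ S ∧ Nat.card S = 2 * Nat.card S₁ := by
  have : Fact (Nat.Prime 2) := ⟨Nat.prime_two⟩
  obtain ⟨a, ha⟩ := IsPGroup.iff_card.1 hS
  have hT2 : IsPGroup 2 (T.subgroupOf S) := hS.to_subgroup _
  obtain ⟨b, hb⟩ := IsPGroup.iff_card.1 hT2
  have hlt : b < a := by
    by_contra hcon
    have h1 : Nat.card S ≤ Nat.card (T.subgroupOf S) := by
      rw [ha, hb]
      exact Nat.pow_le_pow_right two_pos (not_lt.1 hcon)
    have h2 : T.subgroupOf S = ⊤ := eq_top_of_le_card _ h1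
    exact hne (le_antisymm hT (subgroupOf_eq_top.1 h2))
  obtain ⟨K, hK, hTK⟩ := Sylow.exists_subgroup_card_pow_prime_le (G := S) 2 (n := b) (m := a - 1)
    (by rw [ha]; exact pow_dvd_pow 2 (Nat.sub_le a 1)) (T.subgroupOf S) hb (by omega)
  refine ⟨K.map S.subtype, ?_, map_subtype_le K, ?_⟩
  · intro t ht
    exact ⟨⟨t, hT ht⟩, hTK (mem_subgroupOf.2 ht), rfl⟩
  · have h3 : Nat.card (K.map S.subtype) = Nat.card K := card_map_of_injective S.subtype_injective
    rw [h3, hK, ha, ← pow_succ']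
    congr 1
    omega

/-- **the halves exist** -/
theorem exists_hf [Finite G] (S : Sylow 2 G) {P : Subgroup G} (h : IsParS (S : Subgroup G) P) {k : ℕ}
    (hk : 2 ≤ k) (M : NatK F (S : Subgroup G) P (zl (S : Subgroup G) P) (cv (S : Subgroup G) P) k) (i : Fin k) :
    ∃ (S₁ : Subgroup G) (J : Fin k → Prop), Hf M S₁ J ∧ J i := by
  have hTS : Tc M i ≤ (S : Subgroup G) := fun t ht => ht.1.1
  have hne : Tc M i ≠ S := by
    intro h1
    have : Nontrivial (Fin k) := Fin.nontrivial_iff_two_le.2 hk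
    obtain ⟨j, hj⟩ := exists_ne i
    obtain ⟨t, ht, h2⟩ := M.trans i j
    have h3 : t ∈ Tc M i := by
      rw [h1]
      exact ht
    exact hj (Mv.unique (M := M) (g := t) (i := i) h2 h3.2 (h.le ht))
  obtain ⟨S₁, hT, hle, hc⟩ := exists_card S.isPGroup' hTS hne
  have htwo := IId.Two.two_cosets hle hc
  have hP : ∀ s ∈ S₁, s ∈ P := fun s hs => h.le (hle hs)
  -- two elements of `S` with `i ↦ j` are in the same coset of `S₁`
  have key : ∀ s ∈ (S : Subgroup G), ∀ t ∈ (S : Subgroup G), ∀ j, Mv M s i j → Mv M t i j → s⁻¹ * t ∈ S₁ := by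
    intro s hs t ht j h1 h2
    exact hT ⟨⟨mul_mem (inv_mem hs) ht, mul_mem (inv_mem (h.le hs)) (h.le ht)⟩, (h1.inv (h.le hs)).mul h2 (h.le ht)⟩
  let J : Fin k → Prop := fun j => ∃ s ∈ S₁, Mv M s i j
  have hJi : J i := ⟨1, one_mem _, fun v _ => by rw [one_mul, inv_one, mul_one]⟩
  -- `s` with `i ↦ j` is in `S₁` iff `J j`
  have hJ : ∀ s ∈ (S : Subgroup G), ∀ j, Mv M s i j → (J j ↔ s ∈ S₁) := by
    intro s hs j h1
    constructor
    · rintro ⟨t, ht, h2⟩
      have h3 := key s hs t (hle ht) j h1 h2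
      have h4 : s⁻¹ ∈ S₁ := (mul_mem_cancel_right ht).1 h3
      exact inv_mem_iff.1 h4
    · intro h2
      exact ⟨s, h2, h1⟩
  have hmul : ∀ s ∈ (S : Subgroup G), ∀ t ∈ (S : Subgroup G), s ∉ S₁ → t ∉ S₁ → s * t ∈ S₁ := by
    intro s hs t ht h1 h2
    have h3 := htwo s⁻¹ (inv_mem hs) t ht (fun h3 => h1 (inv_mem_iff.1 h3)) h2
    rwa [inv_inv] at h3
  refine ⟨S₁, J, ⟨hle, htwo, IId.Two.exists_not_mem hle hc, ?_, ?_, ?_, ?_, ⟨i, hJi⟩, ?_⟩, hJi⟩
  · -- stab
    intro s hs a b hab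
    obtain ⟨u, hu, hua⟩ := M.trans i a
    have hua' : Mv M u i a := hua
    rw [hJ u hu a hua', hJ (s * u) (mul_mem (hle hs) hu) b (hab.mul hua' (h.le hu)), mul_mem_cancel_left hs]
  · -- swap
    intro s hs hs1 a b hab
    obtain ⟨u, hu, hua⟩ := M.trans i a
    have hua' : Mv M u i a := hua
    rw [hJ u hu a hua', hJ (s * u) (mul_mem hs hu) b (hab.mul hua' (h.le hu))]
    constructor
    · intro h1 h2
      exact hs1 ((mul_mem_cancel_right h1).1 h2)
    · intro h1
      by_contra h2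
      exact h1 (hmul s hs u hu hs1 h2)
  · -- trans
    rintro a b ⟨s, hs, ha⟩ ⟨t, ht, hb⟩
    exact ⟨t * s⁻¹, mul_mem ht (inv_mem hs), hb.mul (ha.inv (hP s hs)) (inv_mem (hP s hs))⟩
  · -- transN
    intro a b ha hb
    obtain ⟨s, hs, hsa⟩ := M.trans i a
    obtain ⟨t, ht, htb⟩ := M.trans i b
    have hsa' : Mv M s i a := hsa
    have htb' : Mv M t i b := htb
    rw [hJ s hs a hsa'] at ha
    rw [hJ t ht b htb'] at hb
    exact ⟨t * s⁻¹, hmul t ht s⁻¹ (inv_mem hs) hb (fun h1 => ha (inv_mem_iff.1 h1)),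
      htb'.mul (hsa'.inv (h.le hs)) (inv_mem (h.le hs))⟩
  · -- exN
    obtain ⟨s, hs, hs1⟩ := IId.Two.exists_not_mem hle hc
    obtain ⟨j, hj⟩ := exists_Mv (M := M) (h.le hs) i
    exact ⟨j, fun h1 => hs1 ((hJ s hs j hj).1 h1)⟩

end Cfsg.Agent.Omega.NOThreeL.KTwo.Defs

end
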