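import Cfsg.Agent.Mrg.Omega.NOThreeL.KTwo.Defs
import Cfsg.Agent.Omega.NoFF.Basic
import Cfsg.Agent.MinSimple.Basic

section


/-!
# NO-3L box R, THEOREM K: LEMMA HALF

**`half`** : `Q : Hf M S₁ J` implies `HALF M S₁ J`: `H` of characteristic 2, `S₁ ≤ H`, `H` contains lifts of all
`SL₂(F)_l`, `l ∈ J` ⟹ `N_l ≤ Ω₁(Z(O₂(H)))`, `l ∈ J`.
-/

set_option autoImplicit false
set_option linter.unusedSectionVars false

namespace Cfsg.Agent.Omega.NOThreeL.KTwo.Defs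

open Subgroup Cfsg Cfsg.Agent.ZN Cfsg.Agent.Omega.MinPar
open Cfsg.Agent.Omega.FrameFF Cfsg.Agent.Omega.FFThm Cfsg.Agent.Lib.SL2Mat
open Cfsg.Agent.Omega.NatPair (ap ap_add ap_mul ap_one ap_inj ext2 ap_zero' ap_one' ap_inv_ap ap_ap_inv)
open Cfsg.Agent.Omega.HOne (cv_le conj_mem_zl conj_mem_cv)
open Cfsg.Agent.Omega.IId.Cv
open Cfsg.Agent.Omega.IId.Ns
open Cfsg.Agent.MinSimple.VModule (zc_comm zc_sq zc_le mem_zc le_normalizer_o2 normalizer_le_normalizer_zc zc_le_zl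
  o2_isPGroup o2_le mem_normalizer_of_map_le)

universe u

variable {G : Type u} [Group G] {F : Type} [Field F]

attribute [local instance] aqComm

/-! ### `M_J` -/

section nj

variable {S P : Subgroup G} {k : ℕ} (M : NatK F S P (zl S P) (cv S P) k) (J : Fin k → Prop)

/-- the product of the `N_l`, `l ∈ J` -/
def NJ : Subgroup G := ⨆ (l : Fin k) (_ : J l), Nc M l

variable {M J}

theorem Nc_le_NJ {l : Fin k} (hl : J l) : Nc M l ≤ NJ M J := le_iSup₂_of_le l hl le_rfl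

theorem NJ_le {K : Subgroup G} (hK : ∀ l, J l → Nc M l ≤ K) : NJ M J ≤ K := iSup₂_le hK

theorem NJ_le_zl : NJ M J ≤ zl S P := NJ_le fun l _ => Nc_le_zl l

/-- a lift fixes all blocks -/
theorem Al_Mv {i : Fin k} {x : G} {B : Matrix.SpecialLinearGroup (Fin 2) F} (hx : Al M i x B) (m : Fin k) :
    Mv M x m m := by
  by_cases hm : m = i
  · rw [hm]; exact hx.mv
  · intro v hv
    rw [hx.ne hv hm]

theorem NJ_norm {i : Fin k} {x : G} {B : Matrix.SpecialLinearGroup (Fin 2) F} (hx : Al M i x B) {n : G}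
    (hn : n ∈ NJ M J) : x * n * x⁻¹ ∈ NJ M J := by
  have h1 : NJ M J ≤ (NJ M J).comap (MulAut.conj x).toMonoidHom :=
    NJ_le fun l hl n hn => Nc_le_NJ hl (Nc_norm hx.1 (Al_Mv hx l) hn)
  exact h1 hn

end nj

section half

variable [Finite G] [CharP F 2] (hG : IsCharacteristicTwoType G) (S : Sylow 2 G) {P : Subgroup G}
  (h : IsParS (S : Subgroup G) P) {k : ℕ}
  {M : NatK F (S : Subgroup G) P (zl (S : Subgroup G) P) (cv (S : Subgroup G) P) k}

omit [Finite G] in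
/-- an element of order `2^n` does not act as `dg ω` on a block -/
theorem not_dg {l : Fin k} {ω : F} (h0 : ω ≠ 0) (h1 : ω ≠ 1) {y : G} (hy : y ∈ P)
    (hB : ∀ v ∈ zl (S : Subgroup G) P, M.e (y * v * y⁻¹) l = ap (dg ω h0) (M.e v l)) {n : ℕ}
    (hn : y ^ 2 ^ n = 1) : False := by
  obtain ⟨v, hv, hvl, -⟩ := exists_single (M := M) l ![1, 0]
  have h2 : ∀ m : ℕ, y ^ m * v * (y ^ m)⁻¹ ∈ zl (S : Subgroup G) P ∧ M.e (y ^ m * v * (y ^ m)⁻¹) l = ![ω ^ m, 0] := by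
    intro m
    induction m with
    | zero => exact ⟨by rwa [pow_zero, one_mul, inv_one, mul_one], by
        rw [pow_zero, one_mul, inv_one, mul_one, hvl, pow_zero]⟩
    | succ m ih =>
      have e : y ^ (m + 1) * v * (y ^ (m + 1))⁻¹ = y * (y ^ m * v * (y ^ m)⁻¹) * y⁻¹ := by
        rw [pow_succ']; group
      refine ⟨by rw [e]; exact conj_mem_zl hy ih.1, ?_⟩
      rw [e, hB _ ih.1, ih.2]
      apply ext2
      · rw [ap_zero']; simp [pow_succ']
      · rw [ap_one']; simp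
  have h3 := (h2 (2 ^ n)).2
  rw [hn, one_mul, inv_one, mul_one, hvl] at h3
  have h4 : ω ^ 2 ^ n = 1 := (congrFun h3 0).symm
  have htwo : (2 : F) = 0 := CharTwo.two_eq_zero
  have key : ∀ m : ℕ, ω ^ 2 ^ m = 1 → ω = 1 := by
    intro m
    induction m with
    | zero => intro h; simpa using h
    | succ m ih =>
      intro h
      apply ih
      rw [pow_succ, pow_mul] at h
      have h5 : (ω ^ 2 ^ m + 1) ^ 2 = 0 := by linear_combination h + (1 + ω ^ 2 ^ m) * htwo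
      have h6 := pow_eq_zero_iff two_ne_zero |>.1 h5
      linear_combination h6 - htwo
  exact h1 (key n h4)

variable {S₁ : Subgroup G} {J : Fin k → Prop} (Q : Hf M S₁ J)

include Q

omit [CharP F 2] in
theorem Hf.card : Nat.card (S : Subgroup G) = 2 * Nat.card S₁ := by
  obtain ⟨s, hs, hs1⟩ := Q.ne
  have hco := Q.two
  have hidx : (S₁.subgroupOf (S : Subgroup G)).index = 2 := by
    rw [Subgroup.index_eq_two_iff]
    refine ⟨⟨s, hs⟩, fun b => ?_⟩
    change Xor ((b : G) * s ∈ S₁) ((b : G) ∈ S₁)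
    by_cases hb : (b : G) ∈ S₁
    · right
      exact ⟨hb, fun h3 => hs1 ((mul_mem_cancel_left hb).1 h3)⟩
    · left
      refine ⟨?_, hb⟩
      have h3 := hco (b : G)⁻¹ (inv_mem b.2) s hs (fun h4 => hb (inv_mem_iff.1 h4)) hs1
      rwa [inv_inv] at h3
  have h1 := Half.card_mul_relIndex Q.le
  rw [relIndex, hidx] at h1
  rw [← h1, mul_comm]

variable [Fintype F] [DecidableEq F] (hF : 4 ≤ Nat.card F)

/-- `A₀ = {y ∈ Ω₁Z(S₁) ∩ V | e_J y = 1}` -/
noncomputable def A0 (M : NatK F (S : Subgroup G) P (zl (S : Subgroup G) P) (cv (S : Subgroup G) P) k)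
    (S₁ : Subgroup G) (J : Fin k → Prop) : Subgroup ↥(zc (o2 P)) :=
  (VA S P ⊓ (zc S₁).subgroupOf (zc (o2 P))) ⊓ (eL S M (LJ J)).ker

omit Q in
theorem mem_A0 {y : ↥(zc (o2 P))} : y ∈ A0 S M S₁ J ↔
    ((y : G) ∈ zl (S : Subgroup G) P ∧ (y : G) ∈ zc S₁) ∧ eL S M (LJ J) y = 1 := by
  rw [A0, mem_inf, mem_inf, mem_VA, mem_subgroupOf, MonoidHom.mem_ker]

include hG h hF

theorem Hf.mem_NJ {y : ↥(zc (o2 P))} (hy : y ∈ VA S P) (he : eL S M (LJ J) y = 1) : (y : G) ∈ NJ M J := by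
  have h1 := mul_eL_mem hG S h (Q.pos S) M (LJ J) (K := NJ M J) (fun l hl => Nc_le_NJ (mem_LJ.1 hl)) hy
  rwa [he, mul_one] at h1

/-- the coordinates of `y ∈ A₀`, `y ≠ 1` -/
theorem Hf.coord_ne {y : ↥(zc (o2 P))} (hy : y ∈ A0 S M S₁ J) (h1 : y ≠ 1) {l : Fin k} (hl : J l) :
    M.e (y : G) l ≠ 0 := by
  intro h0
  obtain ⟨⟨hyV, hyT⟩, hye⟩ := (mem_A0 S).1 hy
  apply h1
  rw [← hye]
  refine (eL_of_coord hG S h (Q.pos S) M hF ((mem_VA S).2 hyV) fun m hm => ?_).symm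
  obtain ⟨s, hs, hsm⟩ := Q.trans l m hl (mem_LJ.1 hm)
  have h2 := (hsm _ hyV).2 h0
  rwa [(mem_zc.1 hyT).2.1 s hs, mul_inv_cancel_right] at h2

/-- `A₀ ≠ 1` -/
theorem Hf.exists_A0 : ∃ y ∈ A0 S M S₁ J, y ≠ 1 := by
  have hk := Q.pos S
  obtain ⟨ω, h0, h1⟩ := exists_omega hF
  obtain ⟨i, hi⟩ := Q.ex
  let A1 : Subgroup G :=
    { carrier := {a | ∃ ha : a ∈ zc (o2 P), a ∈ zl (S : Subgroup G) P ∧ (∀ l, ¬ J l → M.e a l = 0) ∧
        (∀ l, M.e a l 1 = 0) ∧ eL S M (LJ J) ⟨a, ha⟩ = 1}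
      one_mem' := ⟨one_mem _, one_mem _, fun l _ => by rw [e_one M]; rfl, fun l => by rw [e_one M]; rfl, map_one _⟩
      mul_mem' := by
        rintro a b ⟨ha, ha1, ha2, ha3, ha4⟩ ⟨hb, hb1, hb2, hb3, hb4⟩
        refine ⟨mul_mem ha hb, mul_mem ha1 hb1, fun l hl => ?_, fun l => ?_, ?_⟩
        · rw [M.mul _ ha1 _ hb1, Pi.add_apply, ha2 l hl, hb2 l hl, add_zero]
        · rw [M.mul _ ha1 _ hb1, Pi.add_apply, Pi.add_apply, ha3, hb3, add_zero]
        · have e : (⟨a * b, mul_mem ha hb⟩ : ↥(zc (o2 P))) = ⟨a, ha⟩ * ⟨b, hb⟩ := rfl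
          rw [e, map_mul, ha4, hb4, one_mul]
      inv_mem' := by
        rintro a ⟨ha, ha1, ha2, ha3, ha4⟩
        refine ⟨inv_mem ha, inv_mem ha1, fun l hl => ?_, fun l => ?_, ?_⟩
        · rw [e_inv M ha1, Pi.neg_apply, ha2 l hl, neg_zero]
        · rw [e_inv M ha1, Pi.neg_apply, Pi.neg_apply, ha3, neg_zero]
        · have e : (⟨a⁻¹, inv_mem ha⟩ : ↥(zc (o2 P))) = (⟨a, ha⟩)⁻¹ := rfl
          rw [e, map_inv, ha4, inv_one] }
  have hA1V : A1 ≤ zl (S : Subgroup G) P := fun a ha => by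
    obtain ⟨-, h2, -⟩ := ha
    exact h2
  have hT2 : IsPGroup 2 S₁ := S.isPGroup'.to_le Q.le
  have hA12 : IsPGroup 2 A1 := hT2.to_le (hA1V.trans (Q.V_le hG S h))
  have hline : ∀ a : ↥(zc (o2 P)), (a : G) ∈ zl (S : Subgroup G) P → (∀ l, M.e (a : G) l 1 = 0) → Fx S M a := by
    intro a haV ha l c
    apply Subtype.ext
    rw [rh_val hG S h hk M (lf_spec S M l _)]
    exact fix_line hG S h hk hF (lf_spec S M l _) haV (ha l)
  have hA1T : S₁ ≤ normalizer (A1 : Set G) := by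
    apply IId.Two.le_normalizer_of
    rintro t ht a ha
    have htS := Q.le ht
    have htP := h.le htS
    obtain ⟨ha0, ha1, ha2, ha3, ha4⟩ := ha
    have hb1 : t * a * t⁻¹ ∈ zl (S : Subgroup G) P := conj_mem_zl htP ha1
    have hb2 : ∀ l, ¬ J l → M.e (t * a * t⁻¹) l = 0 := by
      intro l hl
      obtain ⟨m, hm⟩ := exists_Mv' (M := M) htP l
      exact (hm a ha1).2 (ha2 m fun hJ => hl ((Q.stab t ht m l hm).1 hJ))
    have hb3 : ∀ l, M.e (t * a * t⁻¹) l 1 = 0 := by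
      intro l
      obtain ⟨m, hm⟩ := exists_Mv' (M := M) htP l
      exact (conj_line h.le htS hm ha1).2 (ha3 m)
    refine ⟨A_mem htP ha0, hb1, hb2, hb3, ?_⟩
    have h2 := Q.conj_eJ hG S h ht (a := ⟨a, ha0⟩) (hline _ hb1 hb3)
    rw [ha4, map_one] at h2
    exact h2.symm
  -- `A₁ ≠ 1`
  obtain ⟨u, hu, hui, huj⟩ := exists_single (M := M) i ![1, 0]
  have huA := zl_le_A hG S h hu
  set u' : ↥(zc (o2 P)) := ⟨u, huA⟩ with hu'
  have hLA := lf_spec S M i (dg ω h0)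
  have hdu := dg_e (F := F) (ω := ω) (h0 := h0)
  have hmem : u * (lf S M i (dg ω h0) * u * (lf S M i (dg ω h0))⁻¹) ∈ A1 := by
    refine ⟨(u' * rh S M i (dg ω h0) u').2, mul_mem hu (hLA.V hu), fun l hl => ?_, fun l => ?_, ?_⟩
    · have hli : l ≠ i := fun e => hl (e ▸ hi)
      rw [M.mul _ hu _ (hLA.V hu), Pi.add_apply, hLA.ne hu hli, huj l hli, add_zero]
    · by_cases hli : l = i
      · subst hli
        rw [M.mul _ hu _ (hLA.V hu), Pi.add_apply, hLA.same hu, hui, hdu]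
        simp
      · rw [M.mul _ hu _ (hLA.V hu), Pi.add_apply, hLA.ne hu hli, huj l hli, add_zero]
        rfl
    · show eL S M (LJ J) (u' * rh S M i (dg ω h0) u') = 1
      refine eL_one hG S h hk M (mem_LJ.2 hi) ?_
      have h2 : eA S M i (rh S M i (dg ω h0) u') = eA S M i u' := by
        rw [eA_apply, eA_apply]
        refine Fintype.prod_equiv (Equiv.mulRight (Units.mk0 ω h0)) _ _ fun l => ?_
        rw [← rh_mul hG S h hk, dg_mul_dg]
        rfl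
      rw [map_mul, h2, A_sq]
  have hne : u * (lf S M i (dg ω h0) * u * (lf S M i (dg ω h0))⁻¹) ≠ 1 := by
    intro h2
    have h3 : M.e (u * (lf S M i (dg ω h0) * u * (lf S M i (dg ω h0))⁻¹)) i 0 = 0 := by rw [h2, e_one M]; rfl
    rw [M.mul _ hu _ (hLA.V hu), Pi.add_apply, hLA.same hu, hui, hdu] at h3
    simp at h3
    apply h1
    have htwo : (2 : F) = 0 := CharTwo.two_eq_zero
    linear_combination h3 - htwo
  have hA1 : A1 ≠ ⊥ := fun h2 => hne (by rw [h2, mem_bot] at hmem; exact hmem)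
  obtain ⟨y, hy, hy1, hyf⟩ := Half.exists_fixed hA12 hA1 hT2 hA1T
  have hyV := hA1V hy
  obtain ⟨hyA, -, -, -, hy4⟩ := hy
  refine ⟨⟨y, hyA⟩, (mem_A0 S).2 ⟨⟨hyV, mem_zc.2 ⟨Q.V_le hG S h hyV, fun t ht => ?_, zc_sq _ _ hyA⟩⟩, hy4⟩,
    fun h2 => hy1 (congrArg Subtype.val h2)⟩
  exact mul_inv_eq_iff_eq_mul.1 (hyf t ht)

/-- `O₂(H)` centralises `N_l`, `l ∈ J` -/
theorem Hf.o2_le_cent {H : Subgroup G} (hT : S₁ ≤ H) (hX : ∀ l, J l → ∀ B, ∃ x ∈ H, Al M l x B) {l₀ : Fin k}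
    (hl₀ : J l₀) : o2 H ≤ centralizer (Nc M l₀ : Set G) := by
  have hk := Q.pos S
  have : Fact (Nat.Prime 2) := ⟨Nat.prime_two⟩
  set W := o2 H with hW
  have hHW : H ≤ normalizer (W : Set G) := le_normalizer_o2 H
  have hW2 : IsPGroup 2 W := o2_isPGroup H
  have hnW : ∀ x ∈ H, ∀ w ∈ W, x * w * x⁻¹ ∈ W := fun x hx w hw => (mem_normalizer_iff.1 (hHW hx) w).1 hw
  have hnW' : ∀ x ∈ H, ∀ w ∈ W, x⁻¹ * w * x ∈ W := fun x hx w hw => by
    have := hnW x⁻¹ (inv_mem hx) w hw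
    rwa [inv_inv] at this
  -- elements of `W ∩ P` fix the blocks in `J`
  have hfix : ∀ w ∈ W, w ∈ P → ∀ l, J l → Mv M w l l := by
    intro w hw hwP l hl
    obtain ⟨m, hm⟩ := exists_Mv (M := M) hwP l
    by_cases hml : m = l
    · rwa [hml] at hm
    exfalso
    obtain ⟨ω, h0, h1⟩ := exists_omega hF
    obtain ⟨x, hx, hB⟩ := hX l hl (dg ω h0)⁻¹
    obtain ⟨B', hB'⟩ := conj_Al hwP hm hB
    have hy : w * x * w⁻¹ * x⁻¹ ∈ W := by
      have h2 := mul_mem hw (hnW x hx _ (inv_mem hw))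
      have e : w * (x * w⁻¹ * x⁻¹) = w * x * w⁻¹ * x⁻¹ := by group
      rwa [e] at h2
    have hyP : w * x * w⁻¹ * x⁻¹ ∈ P := mul_mem hB'.1 (inv_mem hB.1)
    obtain ⟨n, hn⟩ := hW2 ⟨_, hy⟩
    have hn' : (w * x * w⁻¹ * x⁻¹) ^ 2 ^ n = 1 := by
      have := congrArg Subtype.val hn
      simpa using this
    refine not_dg S h0 h1 (l := l) (M := M) hyP (fun v hv => ?_) hn'
    have e : w * x * w⁻¹ * x⁻¹ * v * (w * x * w⁻¹ * x⁻¹)⁻¹ =
        (w * x * w⁻¹) * (x⁻¹ * v * x⁻¹⁻¹) * (w * x * w⁻¹)⁻¹ := by group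
    rw [e, hB'.ne (hB.inv.V hv) (Ne.symm hml), hB.inv.same hv, inv_inv]
  have hKc : ∀ w ∈ W, w ∈ P → ∀ l, J l → w ∈ centralizer (Nc M l : Set G) := by
    intro w hw hwP l hl
    have hK2 : IsPGroup 2 (W ⊓ P : Subgroup G) := hW2.to_le inf_le_left
    have hKt := triv_of_norm S hK2 inf_le_right (fun w hw => hfix w (mem_inf.1 hw).1 (mem_inf.1 hw).2 l hl)
      (M := M) (i := l) fun B => by
        obtain ⟨x, hx, hB⟩ := hX l hl B
        exact ⟨x, hB, fun w hw => mem_inf.2 ⟨hnW' x hx w (mem_inf.1 hw).1,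
          mul_mem (mul_mem (inv_mem hB.1) (mem_inf.1 hw).2) hB.1⟩⟩
    exact cent_Nc hG S h hk hF hwP (hKt w (mem_inf.2 ⟨hw, hwP⟩))
  have hKJ : ∀ w ∈ W, w ∈ P → ∀ n ∈ NJ M J, n * w = w * n := by
    intro w hw hwP n hn
    have h1 : NJ M J ≤ centralizer ({w} : Set G) := NJ_le fun l hl n hn => by
      rw [mem_centralizer_iff]
      rintro y (rfl : y = w)
      exact (mem_centralizer_iff.1 (hKc y hw hwP l hl) n hn).symm
    exact (mem_centralizer_iff.1 (h1 hn) w rfl).symm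
  by_contra hcon
  obtain ⟨w, hw, hwc⟩ := SetLike.not_le_iff_exists.mp hcon
  -- `R = W S₁`
  have hT2 : IsPGroup 2 S₁ := S.isPGroup'.to_le Q.le
  set R : Subgroup G := S₁ ⊔ W with hR
  have hR2 : IsPGroup 2 R := IsPGroup.to_sup_of_normal_right' hT2 hW2 (hT.trans hHW)
  have hTR : S₁ ≤ R := le_sup_left
  have hWR : W ≤ R := le_sup_right
  have hRc : Nat.card R ≤ 2 * Nat.card S₁ := by
    rw [← Q.card S]
    exact Half.card_le_sylow S hR2
  have hwT : w ∉ S₁ := fun ht => hwc (hKc w hw (Q.le_P S h ht) l₀ hl₀)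
  have hco : ∀ a ∈ R, ∀ b ∈ R, a ∉ S₁ → b ∉ S₁ → a⁻¹ * b ∈ S₁ := by
    apply IId.Two.two_cosets hTR
    have h1 := Half.card_mul_relIndex hTR
    have h2 : S₁.relIndex R ≠ 1 := fun h2 => hwT (relIndex_eq_one.1 h2 (hWR hw))
    have h3 : S₁.relIndex R ≠ 0 := index_ne_zero_of_finite
    have h4 : 0 < Nat.card S₁ := Nat.card_pos
    have h5 : S₁.relIndex R ≤ 2 := by
      by_contra hc
      push Not at hc
      have h6 : Nat.card S₁ * 3 ≤ Nat.card S₁ * S₁.relIndex R := Nat.mul_le_mul_left _ hc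
      omega
    have h6 : S₁.relIndex R = 2 := by omega
    rw [← h1, h6, mul_comm]
  have hwn : ∀ t ∈ S₁, w * t * w⁻¹ ∈ S₁ := fun t ht => IId.Two.conj_mem_of_two hTR hco (hWR hw) ht
  have hwn' : ∀ t ∈ S₁, w⁻¹ * t * w ∈ S₁ := fun t ht => by
    have := IId.Two.conj_mem_of_two hTR hco (inv_mem (hWR hw)) ht
    rwa [inv_inv] at this
  -- `w⁻¹ w^x` centralises `M_J`
  have hkc : ∀ x ∈ H, ∀ l, ∀ B, Al M l x B → ∀ n ∈ NJ M J,
      n * (w⁻¹ * (x * w * x⁻¹)) = (w⁻¹ * (x * w * x⁻¹)) * n := by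
    intro x hx l B hB n hn
    have h1 : x * w * x⁻¹ ∈ W := hnW x hx w hw
    have h2 : x * w * x⁻¹ ∉ S₁ := by
      intro h2
      have h3 : w ∈ P := by
        have h4 := mul_mem (mul_mem (inv_mem hB.1) (Q.le_P S h h2)) hB.1
        have e : x⁻¹ * (x * w * x⁻¹) * x = w := by group
        rwa [e] at h4
      exact hwc (hKc w hw h3 l₀ hl₀)
    exact hKJ _ (mul_mem (inv_mem hw) h1) (Q.le_P S h (hco _ (hWR hw) _ (hWR h1) hwT h2)) n hn
  have heq : ∀ x ∈ H, ∀ l, ∀ B, Al M l x B → ∀ n ∈ NJ M J,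
      x * (w * n * w⁻¹) * x⁻¹ = w * (x * n * x⁻¹) * w⁻¹ := by
    intro x hx l B hB n hn
    have h1 := hkc x hx l B hB _ (NJ_norm hB hn)
    set c := w⁻¹ * (x * w * x⁻¹) with hc
    calc x * (w * n * w⁻¹) * x⁻¹ = w * (c * (x * n * x⁻¹)) * c⁻¹ * w⁻¹ := by rw [hc]; group
      _ = w * ((x * n * x⁻¹) * c) * c⁻¹ * w⁻¹ := by rw [h1]
      _ = _ := by group
  -- `w` normalises `Ω₁Z(S₁)`
  have hwY : ∀ y ∈ zc S₁, w * y * w⁻¹ ∈ zc S₁ := by
    intro y hy
    obtain ⟨h1, h2, h3⟩ := mem_zc.1 hy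
    refine mem_zc.2 ⟨hwn y h1, fun t ht => ?_, ?_⟩
    · have h4 := h2 _ (hwn' t ht)
      calc t * (w * y * w⁻¹) = w * (w⁻¹ * t * w * y) * w⁻¹ := by group
        _ = w * (y * (w⁻¹ * t * w)) * w⁻¹ := by rw [h4]
        _ = _ := by group
    · rw [pow_two] at h3 ⊢
      calc w * y * w⁻¹ * (w * y * w⁻¹) = w * (y * y) * w⁻¹ := by group
        _ = 1 := by rw [h3]; group
  -- products
  have hprod : ∀ {ι : Type} (s : Finset ι) (a b : ι → ↥(zc (o2 P))), (∀ m, ((a m : ↥(zc (o2 P))) : G) = w * (b m) * w⁻¹) →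
      ((∏ m ∈ s, a m : ↥(zc (o2 P))) : G) = w * ((∏ m ∈ s, b m : ↥(zc (o2 P))) : G) * w⁻¹ := by
    classical
    intro ι s a b hab
    induction s using Finset.induction_on with
    | empty =>
      rw [Finset.prod_empty, Finset.prod_empty]
      change (1 : G) = w * 1 * w⁻¹
      group
    | insert m s hm ih =>
      rw [Finset.prod_insert hm, Finset.prod_insert hm]
      change ((a m : ↥(zc (o2 P))) : G) * ((∏ m ∈ s, a m : ↥(zc (o2 P))) : G) =
        w * (((b m : ↥(zc (o2 P))) : G) * ((∏ m ∈ s, b m : ↥(zc (o2 P))) : G)) * w⁻¹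
      rw [hab, ih]
      group
  have heL : ∀ L : List (Fin k), (∀ l ∈ L, J l) → ∀ y y' : ↥(zc (o2 P)), (y : G) ∈ NJ M J → (y' : G) = w * y * w⁻¹ →
      ((eL S M L y : ↥(zc (o2 P))) : G) ∈ NJ M J ∧
        ((eL S M L y' : ↥(zc (o2 P))) : G) = w * ((eL S M L y : ↥(zc (o2 P))) : G) * w⁻¹ := by
    intro L
    induction L with
    | nil => intro _ y y' hy hyy; exact ⟨hy, hyy⟩
    | cons j L ih =>
      intro hL y y' hy hyy
      obtain ⟨h1, h2⟩ := ih (fun l hl => hL l (List.mem_cons_of_mem _ hl)) y y' hy hyy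
      have hj := hL j List.mem_cons_self
      rw [eL_cons, eL_cons, eA_apply, eA_apply]
      constructor
      · have h3 : ∏ l : Fˣ, rh S M j (dg (l : F) l.ne_zero) (eL S M L y) ∈ (NJ M J).subgroupOf (zc (o2 P)) := by
          refine Subgroup.prod_mem _ fun l _ => ?_
          rw [mem_subgroupOf, rh_val hG S h hk M (lf_spec S M j _)]
          exact NJ_norm (lf_spec S M j _) h1
        exact mem_subgroupOf.1 h3
      · refine hprod _ _ _ fun l => ?_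
        obtain ⟨x, hx, hB⟩ := hX j hj (dg (l : F) l.ne_zero)
        rw [rh_val hG S h hk M hB, rh_val hG S h hk M hB, h2]
        exact heq x hx j _ hB _ h1
  -- `w` normalises `A₀`
  have hA0 : ∀ y ∈ A0 S M S₁ J, ∃ y' ∈ A0 S M S₁ J, (y' : G) = w * y * w⁻¹ := by
    intro y hy
    obtain ⟨⟨hyV, hyT⟩, hye⟩ := (mem_A0 S).1 hy
    have hy'T := hwY _ hyT
    have hy'A := Q.zc_le hG S h hy'T
    have hyN := Q.mem_NJ hG S h hF ((mem_VA S).2 hyV) hye
    have he' : eL S M (LJ J) ⟨w * y * w⁻¹, hy'A⟩ = 1 := by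
      apply Subtype.ext
      rw [(heL (LJ J) (fun l hl => mem_LJ.1 hl) y ⟨w * y * w⁻¹, hy'A⟩ hyN rfl).2, hye]
      change w * 1 * w⁻¹ = 1
      group
    have hV := Q.claim hG S h hF (f := ⟨w * y * w⁻¹, hy'A⟩) hy'T he'
    exact ⟨⟨w * y * w⁻¹, hy'A⟩, (mem_A0 S).2 ⟨⟨(mem_VA S).1 hV, hy'T⟩, he'⟩, rfl⟩
  -- a fixed point
  obtain ⟨y, hy, hy1, hyw⟩ : ∃ y ∈ A0 S M S₁ J, y ≠ 1 ∧ w * (y : G) * w⁻¹ = y := by
    set B0 : Subgroup G := (A0 S M S₁ J).map (zc (o2 P)).subtype with hB0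
    have hB02 : IsPGroup 2 B0 := by
      refine hT2.to_le ?_
      rintro _ ⟨y, hy, rfl⟩
      exact Cfsg.Agent.MinSimple.VModule.zc_le _ ((mem_A0 S).1 hy).1.2
    have hB0n : w ∈ normalizer (B0 : Set G) := by
      apply mem_normalizer_of_map_le
      rintro _ ⟨_, ⟨y, hy, rfl⟩, rfl⟩
      obtain ⟨y', hy', e⟩ := hA0 y hy
      exact ⟨y', hy', e⟩
    have hB0ne : B0 ≠ ⊥ := by
      obtain ⟨y, hy, hy1⟩ := Q.exists_A0 hG S h hF
      intro h1
      have h2 : (y : G) ∈ B0 := ⟨y, hy, rfl⟩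
      rw [h1, mem_bot] at h2
      exact hy1 (Subtype.ext h2)
    obtain ⟨y0, hy0, hy01, hy0w⟩ := Half.exists_fixed hB02 hB0ne (hW2.to_le (zpowers_le.mpr hw)) (zpowers_le.mpr hB0n)
    obtain ⟨y, hy, rfl⟩ := hy0
    exact ⟨y, hy, fun h1 => hy01 (by rw [h1]; rfl), hy0w w (mem_zpowers w)⟩
  obtain ⟨⟨hyV, hyT⟩, hye⟩ := (mem_A0 S).1 hy
  have hyN := Q.mem_NJ hG S h hF ((mem_VA S).2 hyV) hye
  have hyi := Q.coord_ne hG S h hF hy hy1 hl₀
  -- `C_{M_J}(w)` is invariant under the lifts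
  have hinv : ∀ x ∈ H, ∀ B, Al M l₀ x B → ∀ n ∈ NJ M J, w * n * w⁻¹ = n →
      w * (x * n * x⁻¹) * w⁻¹ = x * n * x⁻¹ := by
    intro x hx B hB n hn hwn
    rw [← heq x hx l₀ B hB n hn, hwn]
  have hcov : ∀ z : Fin 2 → F, ∃ r ∈ NJ M J, w * r * w⁻¹ = r ∧ M.e r l₀ = z := by
    intro z
    by_cases hz : z = 0
    · exact ⟨1, one_mem _, by group, by rw [e_one M, hz]; rfl⟩
    obtain ⟨B, hB⟩ := NatPair.exists_ap hyi hz
    obtain ⟨x, hx, hxB⟩ := hX l₀ hl₀ B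
    exact ⟨x * y * x⁻¹, NJ_norm hxB hyN, hinv x hx B hxB _ hyN hyw, by rw [hxB.same hyV, hB]⟩
  apply hwc
  have key : ∀ n ∈ Nc M l₀, w * n * w⁻¹ = n := by
    intro n hn
    induction hn using closure_induction with
    | mem z hz =>
      obtain ⟨x', hx', v, hv, rfl⟩ := hz
      obtain ⟨B, hB'⟩ := exists_of_Fc hx'
      obtain ⟨x, hx, hB⟩ := hX l₀ hl₀ B
      obtain ⟨r, hr, hrw, hre⟩ := hcov (M.e v l₀)
      have hrV := NJ_le_zl hr
      have e1 : x' * v * x'⁻¹ * v⁻¹ = x * r * x⁻¹ * r⁻¹ := by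
        rw [Al.eq_V hG S h hk hB' hB hv]
        exact comm_eq hG S h hk hF hB hv hrV hre.symm
      rw [e1]
      calc w * (x * r * x⁻¹ * r⁻¹) * w⁻¹ = (w * (x * r * x⁻¹) * w⁻¹) * (w * r * w⁻¹)⁻¹ := by group
        _ = x * r * x⁻¹ * r⁻¹ := by rw [hinv x hx B hB r hr hrw, hrw]
    | one => group
    | mul a b ha hb h1 h2 =>
      calc w * (a * b) * w⁻¹ = (w * a * w⁻¹) * (w * b * w⁻¹) := by group
        _ = a * b := by rw [h1, h2]
    | inv a ha h1 =>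
      calc w * a⁻¹ * w⁻¹ = (w * a * w⁻¹)⁻¹ := by group
        _ = a⁻¹ := by rw [h1]
  exact mem_centralizer_iff.2 fun n hn => (mul_inv_eq_iff_eq_mul.1 (key n hn)).symm

/-- **LEMMA HALF** -/
theorem half : HALF M S₁ J := by
  intro H hT hX hchar l hl
  have h1 := Q.o2_le_cent hG S h hF hT hX hl
  intro n hn
  have hnV := Nc_le_zl l hn
  have hnO : n ∈ o2 H := hchar (mem_inf.2 ⟨hT (Q.V_le hG S h hnV), mem_centralizer_iff.2 fun w hw =>
    (mem_centralizer_iff.1 (h1 hw) n hn).symm⟩)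
  refine mem_zc.2 ⟨hnO, fun w hw => (mem_centralizer_iff.1 (h1 hw) n hn).symm, ?_⟩
  exact zc_sq _ _ (zl_le_A hG S h hnV)

end half

end Cfsg.Agent.Omega.NOThreeL.KTwo.Defs

end

section


/-!
# NO-3L box R, THEOREM K: the good elements

`Q : Hf M S₁ J`, `HALF M S₁ J`.

* **`Hf.good1`** : `1 ≠ x ∈ V` centralised by `S₁`, without coordinates in `J`, is good for `J`;
* **`Hf.good2`** : `x = r d ≠ 1`, `r ∈ V` with `e_{J'} r = 1`, coordinates on the lines, zero in `J` and not zero in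
  `J'` (or `r = 1`), `d ∈ C_V(O²(P))` centralised by `S₁`: `x` is good for `J`.
-/

set_option autoImplicit false
set_option linter.unusedSectionVars false

namespace Cfsg.Agent.Omega.NOThreeL.KTwo.Defs

open Subgroup Cfsg Cfsg.Agent.ZN Cfsg.Agent.Omega.MinPar
open Cfsg.Agent.Omega.FrameFF Cfsg.Agent.Omega.FFThm Cfsg.Agent.Lib.SL2Mat
open Cfsg.Agent.Omega.NatPair (ap ap_add ap_mul ap_one ap_inj ext2 ap_zero' ap_one' ap_inv_ap ap_ap_inv)
open Cfsg.Agent.Omega.HOne (cv_le conj_mem_zl conj_mem_cv)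
open Cfsg.Agent.Omega.IId.Cv
open Cfsg.Agent.Omega.IId.Ns
open Cfsg.Agent.Omega.NoFF.Basic (conj_conj mem_conj conj_le_centralizer)
open Cfsg.Agent.MinSimple.VModule (zc_comm zc_sq zc_le mem_zc le_normalizer_o2 normalizer_le_normalizer_zc zc_le_zl
  o2_isPGroup o2_le mem_normalizer_of_map_le)
open scoped Pointwise

universe u

variable {G : Type u} [Group G] {F : Type} [Field F]

attribute [local instance] aqComm

section gen

variable {S P : Subgroup G} {k : ℕ} {M : NatK F S P (zl S P) (cv S P) k} {J : Fin k → Prop}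

/-- conjugates of good elements by elements normalising the `N_l`, `l ∈ J` -/
theorem Good.conj {x : G} (hx : Good M J x) {b : G} (hb : ∀ l, J l → b ∈ normalizer (Nc M l : Set G)) :
    Good M J (b * x * b⁻¹) := by
  intro l hl g hg
  have hN : ∀ c : G, c ∈ normalizer (Nc M l : Set G) → MulAut.conj c • Nc M l = Nc M l := by
    intro c hc
    ext y
    rw [mem_conj]
    have h1 := mem_normalizer_iff.mp hc (c⁻¹ * y * c)
    rw [h1]
    simp [mul_assoc]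
  have h1 : b⁻¹ * g * b ∈ centralizer ({x} : Set G) := by
    rw [mem_centralizer_singleton_iff] at hg ⊢
    calc b⁻¹ * g * b * x = b⁻¹ * (g * (b * x * b⁻¹)) * b := by group
      _ = b⁻¹ * ((b * x * b⁻¹) * g) * b := by rw [hg]
      _ = x * (b⁻¹ * g * b) := by group
  have h2 := conj_le_centralizer (g := b) (hx l hl _ h1)
  rw [hN b (hb l hl), conj_conj] at h2
  have e : b * (b⁻¹ * g * b) = g * b := by group
  rw [e, ← conj_conj, hN b (hb l hl)] at h2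
  exact h2

end gen

section half

variable [Finite G] [CharP F 2] (hG : IsCharacteristicTwoType G) (S : Sylow 2 G) {P : Subgroup G}
  (h : IsParS (S : Subgroup G) P) {k : ℕ}
  {M : NatK F (S : Subgroup G) P (zl (S : Subgroup G) P) (cv (S : Subgroup G) P) k}
  {S₁ : Subgroup G} {J : Fin k → Prop} (Q : Hf M S₁ J)

include hG h in
/-- `C_G(x)` contains `S₁` and lifts of the `SL₂(F)_l`, `l ∈ J` ⟹ `x` is good -/
theorem good_of (hH : HALF M S₁ J) {x : G} (hxV : x ∈ zl (S : Subgroup G) P) (hx1 : x ≠ 1)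
    (hS : ∀ s ∈ S₁, s * x = x * s) (hX : ∀ l, J l → ∀ B, ∃ y ∈ centralizer ({x} : Set G), Al M l y B) :
    Good M J x := by
  have hsq : x ^ 2 = 1 := by
    rw [pow_two]
    exact sq_zl hG S h hxV
  have hchar : centralizer ({x} : Set G) ⊓ centralizer (o2 (centralizer ({x} : Set G)) : Set G) ≤
      o2 (centralizer ({x} : Set G)) := by
    have h1 := MinSimple.Basic.char2_normalizer hG (U := zpowers x)
      (IsPGroup.iff_card.2 ⟨1, by
        rw [Nat.card_zpowers]; exact (orderOf_eq_prime hsq hx1).trans (pow_one 2).symm⟩)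
      (fun h0 => hx1 (zpowers_eq_bot.1 h0))
    rwa [MinSimple.Basic.normalizer_zpowers_eq hsq] at h1
  have h1 := hH (centralizer ({x} : Set G)) (fun s hs => mem_centralizer_singleton_iff.2 (hS s hs)) hX hchar
  intro l hl g hg n hn
  rw [mem_centralizer_iff]
  intro m hm
  have hm' : m ∈ MulAut.conj g • Nc M l := hm
  rw [mem_conj] at hm'
  have h2 := h1 l hl hn
  have h3 := A_mem (P := centralizer ({x} : Set G)) hg (h1 l hl hm')
  have e : g * (g⁻¹ * m * g) * g⁻¹ = m := by group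
  rw [e] at h3
  exact zc_comm _ _ h3 _ h2

include hG h in
/-- **good1** -/
theorem good1 [Finite F] (hF : 4 ≤ Nat.card F) (hH : HALF M S₁ J) {x : G} (hxV : x ∈ zl (S : Subgroup G) P)
    (hx1 : x ≠ 1) (hS : ∀ s ∈ S₁, s * x = x * s) (h0 : ∀ l, J l → M.e x l = 0) : Good M J x := by
  refine good_of hG S h hH hxV hx1 hS fun l hl B => ?_
  obtain ⟨y, hy⟩ := exists_Al M l B
  refine ⟨y, mem_centralizer_singleton_iff.2 ?_, hy⟩
  exact mul_inv_eq_iff_eq_mul.1 (fix_ker hG S h l.pos hF hy hxV (h0 l hl))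

/-! ### The diagonal elements -/

section dia

variable [Fintype F] [DecidableEq F]

include hG h in
/-- diagonal elements commute with `e_i` -/
theorem cA_eA {b : G} (hb : b ∈ P) {μ : Fin k → Fˣ}
    (hA : ActsSL M.e (zl (S : Subgroup G) P) (cv (S : Subgroup G) P) b fun l => dg (μ l : F) (μ l).ne_zero)
    (i : Fin k) (a : ↥(zc (o2 P))) : cA hb (eA S M i a) = eA S M i (cA hb a) := by
  rw [eA_apply, eA_apply, map_prod]
  refine Finset.prod_congr rfl fun m _ => Subtype.ext ?_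
  have hx := lf_spec S M i (dg (m : F) m.ne_zero)
  rw [cA_val, rh_val hG S h i.pos M hx, rh_val hG S h i.pos M hx, cA_val]
  have h1 := acts_mul M hb hx.1 hA hx.2
  have h2 := acts_mul M hx.1 hb hx.2 hA
  have e : (fun l => dg (μ l : F) (μ l).ne_zero * one1 i (dg (m : F) m.ne_zero) l) =
      fun l => one1 i (dg (m : F) m.ne_zero) l * dg (μ l : F) (μ l).ne_zero := by
    funext l
    by_cases hl : l = i
    · subst hl
      rw [one1_same, dg_mul_dg, dg_mul_dg]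
      congr 1
      exact mul_comm _ _
    · rw [one1_ne hl, one_mul, mul_one]
  rw [e] at h1
  have h3 := same_A hG S h i.pos M (mul_mem hb hx.1) (mul_mem hx.1 hb) h1 h2 a.2
  calc b * (lf S M i (dg (m : F) m.ne_zero) * a * (lf S M i (dg (m : F) m.ne_zero))⁻¹) * b⁻¹
      = b * lf S M i (dg (m : F) m.ne_zero) * a * (b * lf S M i (dg (m : F) m.ne_zero))⁻¹ := by group
    _ = lf S M i (dg (m : F) m.ne_zero) * b * a * (lf S M i (dg (m : F) m.ne_zero) * b)⁻¹ := h3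
    _ = _ := by group

include hG h in
theorem cA_eL {b : G} (hb : b ∈ P) {μ : Fin k → Fˣ}
    (hA : ActsSL M.e (zl (S : Subgroup G) P) (cv (S : Subgroup G) P) b fun l => dg (μ l : F) (μ l).ne_zero)
    (L : List (Fin k)) (a : ↥(zc (o2 P))) : cA hb (eL S M L a) = eL S M L (cA hb a) := by
  induction L with
  | nil => rfl
  | cons j L ih => rw [eL_cons, eL_cons, cA_eA hG S h hb hA, ih]

include hG h in
/-- the second coordinates of an element of `V` centralised by `S₁` are zero -/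
theorem Hf.coord_one {S₁ : Subgroup G} {J : Fin k → Prop} (Q : Hf M S₁ J) {x : G}
    (hx : x ∈ zl (S : Subgroup G) P) (hS : ∀ s ∈ S₁, s * x = x * s) (l : Fin k) : M.e x l 1 = 0 := by
  obtain ⟨t, ht, hA⟩ := Q.exists_unip S h l 1
  have h1 := hA.same hx
  rw [hS t ht, mul_inv_cancel_right, ap_up2] at h1
  have h2 := congrFun h1 0
  simp at h2
  exact h2

include hG h in
/-- an element of `ker e_L` is determined by its coordinates in `L` -/
theorem eq_of_coord (hF : 4 ≤ Nat.card F) {L : List (Fin k)} {a b : ↥(zc (o2 P))} (hk : 0 < k) (ha : a ∈ VA S P)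
    (hb : b ∈ VA S P) (ha1 : eL S M L a = 1) (hb1 : eL S M L b = 1)
    (he : ∀ l ∈ L, M.e (a : G) l = M.e (b : G) l) : a = b := by
  have h1 : eL S M L (a * b⁻¹) = a * b⁻¹ := by
    refine eL_of_coord hG S h hk M hF (mul_mem ha (inv_mem hb)) fun l hl => ?_
    change M.e ((a : G) * (b : G)⁻¹) l = 0
    rw [e_div M ((mem_VA S).1 ha) ((mem_VA S).1 hb), Pi.sub_apply, he l hl, sub_self]
  rw [map_mul, map_inv, ha1, hb1, inv_one, mul_one] at h1
  exact mul_inv_eq_one.1 h1.symm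

include hG h in
/-- **good2** -/
theorem good2 (hF : 4 ≤ Nat.card F) (Q : Hf M S₁ J) (hH : HALF M S₁ J) (r : ↥(zc (o2 P))) (d : G)
    (hrV : (r : G) ∈ zl (S : Subgroup G) P) (hrJ : ∀ l, J l → M.e (r : G) l = 0)
    (hr1 : ∀ l, M.e (r : G) l 1 = 0) (hre : eL S M (LJ fun l => ¬ J l) r = 1)
    (hr : (∀ l, ¬ J l → M.e (r : G) l ≠ 0) ∨ r = 1) (hd : d ∈ cv (S : Subgroup G) P)
    (hdS : ∀ s ∈ S₁, s * d = d * s) (hx1 : (r : G) * d ≠ 1) : Good M J ((r : G) * d) := by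
  classical
  have hk := Q.pos S
  have hdV : d ∈ zl (S : Subgroup G) P := cv_le _ _ hd
  have hd0 : M.e d = 0 := (M.ker d hdV).2 hd
  rcases hr with hr | rfl
  swap
  · have e : ((1 : ↥(zc (o2 P))) : G) * d = d := one_mul d
    rw [e] at hx1 ⊢
    exact good1 hG S h hF hH hdV hx1 hdS fun l _ => by rw [hd0]; rfl
  obtain ⟨r₀, hr₀, hr₀1⟩ := Q.symm.exists_A0 hG S h hF
  obtain ⟨⟨hr₀V, hr₀S⟩, hr₀e⟩ := (mem_A0 S).1 hr₀
  have hr₀ne : ∀ l, ¬ J l → M.e (r₀ : G) l ≠ 0 := fun l hl => Q.symm.coord_ne hG S h hF hr₀ hr₀1 hl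
  have hr₀c : ∀ s ∈ S₁, s * (r₀ : G) = r₀ * s := fun s hs => (mem_zc.1 hr₀S).2.1 s hs
  have hr₀l : ∀ l, M.e (r₀ : G) l 1 = 0 := Q.coord_one hG S h hr₀V hr₀c
  have hr₀J : ∀ l, J l → M.e (r₀ : G) l = 0 := by
    intro l hl
    have h1 := Q.symm.mem_NJ hG S h hF ((mem_VA S).2 hr₀V) hr₀e
    let K : Subgroup G :=
      { carrier := {y | y ∈ zl (S : Subgroup G) P ∧ M.e y l = 0}
        one_mem' := ⟨one_mem _, by rw [e_one M]; rfl⟩
        mul_mem' := by
          rintro a b ⟨ha, ha1⟩ ⟨hb, hb1⟩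
          exact ⟨mul_mem ha hb, by rw [M.mul _ ha _ hb, Pi.add_apply, ha1, hb1, add_zero]⟩
        inv_mem' := by
          rintro a ⟨ha, ha1⟩
          exact ⟨inv_mem ha, by rw [e_inv M ha, Pi.neg_apply, ha1, neg_zero]⟩ }
    have h2 : NJ M (fun i => ¬ J i) ≤ K := NJ_le fun m hm n hn =>
      ⟨Nc_le_zl m hn, Nc_ne (fun e : l = m => hm (e ▸ hl)) hn⟩
    exact (h2 h1).2
  have hc0 : ∀ l, ¬ J l → M.e (r : G) l 0 ≠ 0 := by
    intro l hl h1
    exact hr l hl (ext2 h1 (hr1 l))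
  have hc0' : ∀ l, ¬ J l → M.e (r₀ : G) l 0 ≠ 0 := by
    intro l hl h1
    exact hr₀ne l hl (ext2 h1 (hr₀l l))
  -- the diagonal element
  let μ : Fin k → Fˣ := fun l => if hl : J l then 1 else
    Units.mk0 (M.e (r : G) l 0 / M.e (r₀ : G) l 0) (div_ne_zero (hc0 l hl) (hc0' l hl))
  obtain ⟨b, hb, hA⟩ := M.lift fun l => dg (μ l : F) (μ l).ne_zero
  have hμJ : ∀ l, J l → dg (μ l : F) (μ l).ne_zero = 1 := by
    intro l hl
    have e : μ l = 1 := dif_pos hl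
    rw [e]
    exact ext_ent (by simp) (by simp) (by simp) (by simp)
  have hbr : cA hb r₀ = r := by
    refine eq_of_coord hG S h hF hk (cA_VA S hb ((mem_VA S).2 hr₀V)) ((mem_VA S).2 hrV) (L := LJ fun l => ¬ J l)
      (M := M) ?_ hre fun l hl => ?_
    · rw [← cA_eL hG S h hb hA, hr₀e, map_one]
    · have hl' : ¬ J l := mem_LJ.1 hl
      rw [cA_val, hA.1 _ hr₀V]
      have e : (μ l : F) = M.e (r : G) l 0 / M.e (r₀ : G) l 0 := by
        have : μ l = Units.mk0 (M.e (r : G) l 0 / M.e (r₀ : G) l 0) (div_ne_zero (hc0 l hl') (hc0' l hl')) :=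
          dif_neg hl'
        rw [this, Units.val_mk0]
      apply ext2
      · rw [ap_zero', hr₀l l]
        have e2 : ∀ (y : F) (hy : y ≠ 0), ent (dg y hy) 0 0 * M.e (r₀ : G) l 0 + ent (dg y hy) 0 1 * 0 =
            y * M.e (r₀ : G) l 0 := fun y hy => by simp
        rw [e2, e]
        exact div_mul_cancel₀ _ (hc0' l hl')
      · rw [ap_one', hr₀l l, hr1 l]
        simp
  have hbx : b * ((r₀ : G) * d) * b⁻¹ = (r : G) * d := by
    have h1 := congrArg Subtype.val hbr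
    rw [cA_val] at h1
    rw [← h1]
    have h2 := hA.2 d hd
    calc b * ((r₀ : G) * d) * b⁻¹ = b * r₀ * b⁻¹ * (b * d) * b⁻¹ := by group
      _ = b * r₀ * b⁻¹ * (d * b) * b⁻¹ := by rw [h2]
      _ = _ := by group
  have hx₀ : Good M J ((r₀ : G) * d) := by
    refine good1 hG S h hF hH (mul_mem hr₀V hdV) ?_ (fun s hs => ?_) fun l hl => ?_
    · intro h1
      apply hx1
      rw [← hbx, h1]
      group
    · rw [← mul_assoc, hr₀c s hs, mul_assoc, hdS s hs, mul_assoc]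
    · rw [M.mul _ hr₀V _ hdV, Pi.add_apply, hr₀J l hl, hd0, Pi.zero_apply, add_zero]
  rw [← hbx]
  refine hx₀.conj fun l hl => ?_
  have h1 : b ∈ centralizer (Nc M l : Set G) := by
    refine cent_Nc hG S h hk hF hb fun v hv => ?_
    rw [hA.1 v hv l]
    change ap (dg (μ l : F) (μ l).ne_zero) (M.e v l) = _
    rw [hμJ l hl, ap_one]
  exact Subgroup.centralizer_le_normalizer _ h1

end dia

end half

end Cfsg.Agent.Omega.NOThreeL.KTwo.Defs

end
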