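import Cfsg.Agent.Mrg.Omega.NOThreeL.KTwo.Defs
import Cfsg.Agent.Mrg.Omega.NOThreeL.RA.Base
import Cfsg.Agent.Mrg.Omega.NOThreeL.RStr.Act
import Cfsg.Agent.Mrg.Omega.IId.Ns.Defs
import Cfsg.Agent.Mrg.Omega.NOThreeL.Star

section


/-!
# NO-3L, `R ∩ (A)`, `k ≥ 2`: THEOREM K (#21065, helper162), (3): the action of `U` on the blocks

`hq : Quad S P U` (`U ≤ S` elementary abelian, normal in `S`). `M : NatK F S P (zl S P) (cv S P) k`.

* `U_acts` : `u ∈ U` acts as `fun i => up (b i)` and centralises `cv S P`; `bt M u = b`;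
* `mem_cent_iff` : `u` centralises `N_l` iff `bt M u l = 0`;
* `relIndex_le` : `|U : C_U(N_l)| ≤ |F|`; `relIndex_eq` : it does not depend on `l`;
* `exists_two` : `|U : C_U(N_l)| > 2` implies that two different nonzero `bt M u l` occur.
-/

set_option autoImplicit false
set_option linter.unusedSectionVars false

namespace Cfsg.Agent.Omega.NOThreeL.KTwo

open Subgroup Cfsg Cfsg.Agent.ZN Cfsg.Agent.Omega.MinPar
open Cfsg.Agent.Omega.FrameFF Cfsg.Agent.Omega.FFThm Cfsg.Agent.Lib.SL2Mat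
open Cfsg.Agent.Omega.NatPair (ap ap_add ap_mul ap_one ap_inj ext2 ap_zero' ap_one' ap_inv_ap ap_ap_inv)
open Cfsg.Agent.Omega.HOne (cv_le conj_mem_zl conj_mem_cv)
open Cfsg.Agent.Omega.IId.Cv Cfsg.Agent.Omega.IId.Ns
open Cfsg.Agent.Omega.NOThreeL.AFour (Quad)
open Cfsg.Agent.Omega.NOThreeL.KTwo.Defs
open Cfsg.Agent.MinSimple.VModule (zc_comm zc_sq zc_le mem_zc le_normalizer_o2 normalizer_le_normalizer_zc zc_le_zl
  o2_isPGroup o2_le)
open scoped Pointwise

universe u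

variable {G : Type u} [Group G] {F : Type} [Field F]

section gen

variable {S P : Subgroup G} {k : ℕ} {M : NatK F S P (zl S P) (cv S P) k}

theorem up_inj {b c : F} (h : ap (up b) ![0, 1] = ap (up c) ![0, 1]) : b = c := by
  have h1 := congrFun h 0
  rw [ap_zero', ap_zero'] at h1
  simpa using h1

theorem acts_up_unique {u : G} {b c : Fin k → F}
    (hb : ∀ v ∈ zl S P, ∀ i, M.e (u * v * u⁻¹) i = ap (up (b i)) (M.e v i))
    (hc : ∀ v ∈ zl S P, ∀ i, M.e (u * v * u⁻¹) i = ap (up (c i)) (M.e v i)) : b = c := by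
  funext i
  obtain ⟨v, hv, h1, -⟩ := exists_single (M := M) i ![0, 1]
  apply up_inj
  rw [← h1, ← hb v hv i, ← hc v hv i]

open Classical in
/-- the parameters of `u` -/
noncomputable def bt (M : NatK F S P (zl S P) (cv S P) k) (u : G) : Fin k → F :=
  if h : ∃ b : Fin k → F, ∀ v ∈ zl S P, ∀ i, M.e (u * v * u⁻¹) i = ap (up (b i)) (M.e v i) then h.choose else 0

theorem bt_eq {u : G} {b : Fin k → F}
    (hb : ∀ v ∈ zl S P, ∀ i, M.e (u * v * u⁻¹) i = ap (up (b i)) (M.e v i)) : bt M u = b := by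
  have h : ∃ b : Fin k → F, ∀ v ∈ zl S P, ∀ i, M.e (u * v * u⁻¹) i = ap (up (b i)) (M.e v i) := ⟨b, hb⟩
  rw [bt, dif_pos h]
  exact acts_up_unique h.choose_spec hb

/-- elements mapping the `i`-th block to the `j`-th -/
theorem Nc_mvK {i j : Fin k} {g : G} (hg : g ∈ P) (hm : Mv M g i j) {n : G} (hn : n ∈ Nc M i) :
    g * n * g⁻¹ ∈ Nc M j := by
  induction hn using closure_induction with
  | mem x hx =>
    obtain ⟨y, hy, v, hv, rfl⟩ := hx
    obtain ⟨B, hB⟩ := exists_of_Fc hy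
    obtain ⟨B', hB'⟩ := conj_Al hg hm hB
    have e : g * (y * v * y⁻¹ * v⁻¹) * g⁻¹ =
      (g * y * g⁻¹) * (g * v * g⁻¹) * (g * y * g⁻¹)⁻¹ * (g * v * g⁻¹)⁻¹ := by group
    rw [e]
    exact Sd.comm_mem_Nc M hB'.mem_Fc (conj_mem_zl hg hv)
  | one => rw [mul_one, mul_inv_cancel]; exact one_mem _
  | mul x y _ _ hx hy =>
    have e : g * (x * y) * g⁻¹ = (g * x * g⁻¹) * (g * y * g⁻¹) := by group
    rw [e]; exact mul_mem hx hy
  | inv x _ hx =>
    have e : g * x⁻¹ * g⁻¹ = (g * x * g⁻¹)⁻¹ := by group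
    rw [e]; exact inv_mem hx

theorem conj_Nc {i j : Fin k} {g : G} (hg : g ∈ P) (hm : Mv M g i j) : MulAut.conj g • Nc M i = Nc M j := by
  apply le_antisymm
  · rintro _ ⟨n, hn, rfl⟩
    exact Nc_mvK hg hm hn
  · intro n hn
    rw [NoFF.Basic.mem_conj]
    have h1 := Nc_mvK (inv_mem hg) (hm.inv hg) hn
    rwa [inv_inv] at h1

end gen

section main

variable [Finite G] [CharP F 2] (hG : IsCharacteristicTwoType G) (S : Sylow 2 G) {P : Subgroup G}
  (h : IsParS (S : Subgroup G) P) {k : ℕ}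
  {M : NatK F (S : Subgroup G) P (zl (S : Subgroup G) P) (cv (S : Subgroup G) P) k}
  {U : Subgroup G} (hq : Quad (S : Subgroup G) P U)

include hG h hq in
/-- `u ∈ U` acts as `fun i => up (bt M u i)` and centralises `cv S P` -/
theorem U_acts (hk : 0 < k) {u : G} (hu : u ∈ U) :
    ActsSL M.e (zl (S : Subgroup G) P) (cv (S : Subgroup G) P) u fun i => up (bt M u i) := by
  obtain ⟨b, hb⟩ := RStr.exists_up hq M hu
  rw [bt_eq hb]
  refine ⟨hb, fun d hd => ?_⟩
  obtain ⟨t, ht, htb⟩ := M.unip b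
  have h1 : t⁻¹ * u ∈ (S : Subgroup G) := mul_mem (inv_mem ht) (hq.US hu)
  have h2 : t⁻¹ * u ∈ kern M := by
    refine ⟨h.le h1, fun v hv => ?_⟩
    have h3 := acts_inv M (h.le ht) htb
    have e : t⁻¹ * u * v * (t⁻¹ * u)⁻¹ = t⁻¹ * (u * v * u⁻¹) * t⁻¹⁻¹ := by group
    funext i
    rw [e, h3.1 _ (conj_mem_zl (h.le (hq.US hu)) hv) i, hb v hv i, ap_inv_ap]
  have h3 := comm_of_quot hG S h M hk h1 h2 d (cv_le _ _ hd)
  have h4 := htb.2 d hd
  calc u * d = t * (t⁻¹ * u * d) := by group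
    _ = t * (d * (t⁻¹ * u)) := by rw [h3]
    _ = (t * d) * (t⁻¹ * u) := by group
    _ = d * u := by rw [h4]; group

include hG h hq in
theorem bt_mul (hk : 0 < k) {u w : G} (hu : u ∈ U) (hw : w ∈ U) : bt M (u * w) = bt M u + bt M w := by
  apply bt_eq
  intro v hv i
  have h1 := acts_mul M (hq.UP hu) (hq.UP hw) (U_acts hG S h hq hk hu) (U_acts hG S h hq hk hw)
  rw [h1.1 v hv i]
  congr 1
  exact up_mul _ _

/-- `u` centralises `N_l` iff its `l`-th parameter is `0` -/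
theorem mem_cent_iff (hG : IsCharacteristicTwoType G) (S : Sylow 2 G) {P : Subgroup G}
    (h : IsParS (S : Subgroup G) P) {k : ℕ}
    {M : NatK F (S : Subgroup G) P (zl (S : Subgroup G) P) (cv (S : Subgroup G) P) k}
    {U : Subgroup G} (hq : Quad (S : Subgroup G) P U) (hω : ∃ ω : F, ω ≠ 0 ∧ ω ≠ 1) {l : Fin k} {u : G}
    (hu : u ∈ U) : u ∈ centralizer (Nc M l : Set G) ↔ bt M u l = 0 := by
  have hk : 0 < k := l.pos
  have h1 := (U_acts hG S h hq hk hu (M := M)).1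
  constructor
  · intro h2
    obtain ⟨n, hn, he⟩ := Sd.Nc_surj M l ![0, 1]
    have h3 := h1 n (Sd.Nc_le M l hn) l
    have h4 : u * n * u⁻¹ = n := by
      rw [← mem_centralizer_iff.1 h2 n hn, mul_inv_cancel_right]
    rw [h4, he] at h3
    apply up_inj
    rw [up_zero, ap_one]
    exact h3.symm
  · intro h2
    refine mem_centralizer_iff.2 fun n hn => (Sd.comm_Nc_of hG S h M hω (hq.UP hu) (fun v hv => ?_) n hn).symm
    rw [h1 v hv l]
    change ap (up (bt M u l)) (M.e v l) = _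
    rw [h2, up_zero, ap_one]

section

variable (hω : ∃ ω : F, ω ≠ 0 ∧ ω ≠ 1)

include hG h hq hω

theorem exists_hom (l : Fin k) : ∃ φ : ↥U →* Multiplicative F, (∀ u : ↥U, φ u = Multiplicative.ofAdd (bt M (u : G) l)) ∧
    φ.ker = (centralizer (Nc M l : Set G)).subgroupOf U := by
  have hk : 0 < k := l.pos
  let φ : ↥U →* Multiplicative F := MonoidHom.mk' (fun u => Multiplicative.ofAdd (bt M (u : G) l)) fun a b => by
    change Multiplicative.ofAdd (bt M ((a : G) * b) l) = _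
    rw [bt_mul hG S h hq hk a.2 b.2]
    rfl
  refine ⟨φ, fun _ => rfl, ?_⟩
  ext ⟨u, hu⟩
  rw [MonoidHom.mem_ker, mem_subgroupOf]
  change Multiplicative.ofAdd (bt M u l) = Multiplicative.ofAdd 0 ↔ _
  rw [Multiplicative.ofAdd.injective.eq_iff]
  exact (mem_cent_iff hG S h hq hω hu).symm

theorem relIndex_le [Finite F] (l : Fin k) : (centralizer (Nc M l : Set G)).relIndex U ≤ Nat.card F := by
  obtain ⟨φ, -, h2⟩ := exists_hom hG S h (M := M) hq hω l
  change ((centralizer (Nc M l : Set G)).subgroupOf U).index ≤ _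
  rw [← h2, index_ker]
  exact Nat.card_le_card_of_injective (Subtype.val : φ.range → Multiplicative F) Subtype.val_injective

theorem exists_two {l : Fin k} (h2 : 2 < (centralizer (Nc M l : Set G)).relIndex U) :
    ∃ u ∈ U, ∃ w ∈ U, bt M u l ≠ 0 ∧ bt M w l ≠ 0 ∧ bt M u l ≠ bt M w l := by
  classical
  by_contra hcon
  push Not at hcon
  obtain ⟨φ, h3, h4⟩ := exists_hom hG S h (M := M) hq hω l
  change 2 < ((centralizer (Nc M l : Set G)).subgroupOf U).index at h2
  rw [← h4, index_ker] at h2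
  have h5 : Function.Injective (fun x : φ.range => decide ((x : Multiplicative F) = 1)) := by
    rintro ⟨_, ⟨u, rfl⟩⟩ ⟨_, ⟨w, rfl⟩⟩ huw
    have huw' : (φ u = 1 ↔ φ w = 1) := by
      have : decide (φ u = 1) = decide (φ w = 1) := huw
      simpa using this
    apply Subtype.ext
    change φ u = φ w
    by_cases hu : φ u = 1
    · rw [hu, huw'.1 hu]
    · have hw : φ w ≠ 1 := fun h => hu (huw'.2 h)
      have hu' : bt M (u : G) l ≠ 0 := fun h0 => hu (by rw [h3, h0]; rfl)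
      have hw' : bt M (w : G) l ≠ 0 := fun h0 => hw (by rw [h3, h0]; rfl)
      rw [h3, h3, hcon u u.2 w w.2 hu' hw']
  have h6 := Nat.card_le_card_of_injective _ h5
  rw [Nat.card_eq_fintype_card (α := Bool), Fintype.card_bool] at h6
  omega

/-- `|U : C_U(N_l)| ≤ 2`: all nonzero parameters are equal -/
theorem eq_of_le_two {l : Fin k} (h2 : (centralizer (Nc M l : Set G)).relIndex U ≤ 2) {u w : G} (hu : u ∈ U)
    (hw : w ∈ U) (hu0 : bt M u l ≠ 0) (hw0 : bt M w l ≠ 0) : bt M u l = bt M w l := by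
  by_contra hne
  obtain ⟨φ, h3, h4⟩ := exists_hom hG S h (M := M) hq hω l
  change ((centralizer (Nc M l : Set G)).subgroupOf U).index ≤ 2 at h2
  rw [← h4, index_ker] at h2
  have hfin : Finite φ.range := Set.finite_range φ |>.to_subtype
  have h5 : Function.Injective (fun x : Fin 3 => (![1, ⟨φ ⟨u, hu⟩, ⟨_, rfl⟩⟩, ⟨φ ⟨w, hw⟩, ⟨_, rfl⟩⟩] : Fin 3 → φ.range) x) := by
    have a1 : φ ⟨u, hu⟩ ≠ 1 := fun h0 => hu0 (by rw [h3] at h0; exact h0)
    have a2 : φ ⟨w, hw⟩ ≠ 1 := fun h0 => hw0 (by rw [h3] at h0; exact h0)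
    have a3 : φ ⟨u, hu⟩ ≠ φ ⟨w, hw⟩ := fun h0 => hne (by rw [h3, h3] at h0; exact h0)
    intro x y hxy
    have hxy' := congrArg Subtype.val hxy
    fin_cases x <;> fin_cases y <;> simp at hxy' ⊢
    · exact a1 hxy'.symm
    · exact a2 hxy'.symm
    · exact a1 hxy'
    · exact a3 hxy'
    · exact a2 hxy'
    · exact a3 hxy'.symm
  have h6 := Nat.card_le_card_of_injective _ h5
  rw [Nat.card_eq_fintype_card (α := Fin 3), Fintype.card_fin] at h6
  omega

end

include h hq in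
/-- `|U : C_U(N_l)|` does not depend on `l` -/
theorem relIndex_eq (l l' : Fin k) : (centralizer (Nc M l : Set G)).relIndex U =
    (centralizer (Nc M l' : Set G)).relIndex U := by
  obtain ⟨t, ht, hm⟩ := M.trans l l'
  have h1 : MulAut.conj t • U = U := NOThreeL.Pair.conj_eq_of_mem (hq.SU ht)
  have h2 : MulAut.conj t • centralizer (Nc M l : Set G) = centralizer (Nc M l' : Set G) := by
    rw [← conj_Nc (h.le ht) hm]
    ext x
    rw [NoFF.Basic.mem_conj, mem_centralizer_iff, mem_centralizer_iff]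
    constructor
    · intro h3 y hy
      have hy' : y ∈ MulAut.conj t • Nc M l := hy
      rw [NoFF.Basic.mem_conj] at hy'
      have h4 := h3 _ hy'
      calc y * x = t * ((t⁻¹ * y * t) * (t⁻¹ * x * t)) * t⁻¹ := by group
        _ = t * ((t⁻¹ * x * t) * (t⁻¹ * y * t)) * t⁻¹ := by rw [h4]
        _ = x * y := by group
    · intro h3 y hy
      have h4 := h3 (t * y * t⁻¹) ⟨y, hy, rfl⟩
      calc y * (t⁻¹ * x * t) = t⁻¹ * ((t * y * t⁻¹) * x) * t := by group
        _ = t⁻¹ * (x * (t * y * t⁻¹)) * t := by rw [h4]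
        _ = t⁻¹ * x * t * y := by group
  rw [← h2]
  conv_rhs => rw [← h1]
  exact (Subgroup.relIndex_pointwise_smul (MulAut.conj t) _ _).symm

end main

end Cfsg.Agent.Omega.NOThreeL.KTwo

end

section


/-!
# NO-3L, `R ∩ (A)`, `k ≥ 2`: THEOREM K (#21065, helper162), (3): the case `|T| = 2`

`|U : C_U(N_l)| = 2` for all `l`; `u_l ∈ U` moves `N_l`; `Kap l n = [u_l, n]` (`n ∈ N_l`); `Y = ∏_{l ∉ J} [u_l, N_l] ≤ U`
is normalised by `S₁`, `Y ∩ C_V(O²(P)) = 1`; `1 ≠ y₀ ∈ Y` centralised by `S₁`; `X = ⟨y₀⟩ E`.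

* `exists_Y` .
-/

set_option autoImplicit false
set_option linter.unusedSectionVars false

namespace Cfsg.Agent.Omega.NOThreeL.KTwo

open Subgroup Cfsg Cfsg.Agent.ZN Cfsg.Agent.Omega.MinPar
open Cfsg.Agent.Omega.FrameFF Cfsg.Agent.Omega.FFThm Cfsg.Agent.Lib.SL2Mat
open Cfsg.Agent.Omega.NatPair (ap ap_add ap_mul ap_one ap_inj ext2 ap_zero' ap_one' ap_inv_ap ap_ap_inv)
open Cfsg.Agent.Omega.HOne (cv_le conj_mem_zl conj_mem_cv)
open Cfsg.Agent.Omega.IId.Cv Cfsg.Agent.Omega.IId.Ns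
open Cfsg.Agent.Omega.NOThreeL.AFour (Quad)
open Cfsg.Agent.Omega.NOThreeL.KTwo.Defs
open Cfsg.Agent.MinSimple.VModule (zc_comm zc_sq zc_le mem_zc le_normalizer_o2 normalizer_le_normalizer_zc zc_le_zl
  o2_isPGroup o2_le)
open scoped Pointwise

universe u

variable {G : Type u} [Group G] {F : Type} [Field F]

attribute [local instance] aqComm

section main

variable [Finite G] [CharP F 2] (hG : IsCharacteristicTwoType G) (S : Sylow 2 G) {P : Subgroup G}
  (h : IsParS (S : Subgroup G) P) {k : ℕ}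
  {M : NatK F (S : Subgroup G) P (zl (S : Subgroup G) P) (cv (S : Subgroup G) P) k}
  {U : Subgroup G} (hq : Quad (S : Subgroup G) P U)

/-- coordinates of products in `A` -/
theorem e_prod (s : Finset (Fin k)) (a : Fin k → ↥(zc (o2 P))) (ha : ∀ l ∈ s, a l ∈ VA S P) :
    ((∏ l ∈ s, a l : ↥(zc (o2 P))) : G) ∈ zl (S : Subgroup G) P ∧
      M.e ((∏ l ∈ s, a l : ↥(zc (o2 P))) : G) = ∑ l ∈ s, M.e (a l : G) := by
  classical
  induction s using Finset.induction_on with
  | empty =>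
    rw [Finset.prod_empty, Finset.sum_empty]
    exact ⟨one_mem _, e_one M⟩
  | insert l s hl ih =>
    have h1 := ih fun j hj => ha j (Finset.mem_insert_of_mem hj)
    have h2 : (a l : G) ∈ zl (S : Subgroup G) P := (mem_VA S).1 (ha l (Finset.mem_insert_self l s))
    rw [Finset.prod_insert hl, Finset.sum_insert hl]
    refine ⟨mul_mem h2 h1.1, ?_⟩
    change M.e ((a l : G) * ((∏ l ∈ s, a l : ↥(zc (o2 P))) : G)) = _
    rw [M.mul _ h2 _ h1.1, h1.2]

include hG h in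
theorem Nc_le_A (l : Fin k) : Nc M l ≤ zc (o2 P) := (Sd.Nc_le M l).trans (zl_le_A hG S h)

/-- `n ↦ [u, n]` on `N_l` -/
noncomputable def Kap (hG : IsCharacteristicTwoType G) (S : Sylow 2 G) {P : Subgroup G}
    (h : IsParS (S : Subgroup G) P) {k : ℕ}
    (M : NatK F (S : Subgroup G) P (zl (S : Subgroup G) P) (cv (S : Subgroup G) P) k) {u : G} (hu : u ∈ P)
    (l : Fin k) : ↥(Nc M l) →* ↥(zc (o2 P)) :=
  (cA hu).comp (Subgroup.inclusion (Nc_le_A hG S h l)) * (Subgroup.inclusion (Nc_le_A hG S h l))⁻¹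

theorem Kap_val {u : G} (hu : u ∈ P) {l : Fin k} (n : ↥(Nc M l)) :
    ((Kap hG S h M hu l n : ↥(zc (o2 P))) : G) = u * n * u⁻¹ * (n : G)⁻¹ := rfl

theorem Kap_VA {u : G} (hu : u ∈ P) {l : Fin k} (n : ↥(Nc M l)) : Kap hG S h M hu l n ∈ VA S P := by
  rw [mem_VA, Kap_val]
  exact mul_mem (conj_mem_zl hu (Sd.Nc_le M l n.2)) (inv_mem (Sd.Nc_le M l n.2))

include hG h in
/-- two elements of `P` acting in the same way on the `l`-th coordinates act in the same way on `N_l` -/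
theorem eq_on_Nc (hω : ∃ ω : F, ω ≠ 0 ∧ ω ≠ 1) {l : Fin k} {u w : G} (hu : u ∈ P) (hw : w ∈ P)
    {A : Matrix.SpecialLinearGroup (Fin 2) F}
    (hA : ∀ v ∈ zl (S : Subgroup G) P, M.e (u * v * u⁻¹) l = ap A (M.e v l))
    (hB : ∀ v ∈ zl (S : Subgroup G) P, M.e (w * v * w⁻¹) l = ap A (M.e v l)) {n : G} (hn : n ∈ Nc M l) :
    u * n * u⁻¹ = w * n * w⁻¹ := by
  have h1 : w⁻¹ * u * n = n * (w⁻¹ * u) := by
    refine Sd.comm_Nc_of hG S h M hω (mul_mem (inv_mem hw) hu) (fun v hv => ?_) n hn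
    have hv' := conj_mem_zl (mul_mem (inv_mem hw) hu) hv
    have h2 := hB _ hv'
    have e : w * (w⁻¹ * u * v * (w⁻¹ * u)⁻¹) * w⁻¹ = u * v * u⁻¹ := by group
    rw [e, hA v hv] at h2
    have h3 := congrArg (ap A⁻¹) h2
    rw [ap_inv_ap, ap_inv_ap] at h3
    exact h3.symm
  calc u * n * u⁻¹ = w * (w⁻¹ * u * n) * u⁻¹ := by group
    _ = w * (n * (w⁻¹ * u)) * u⁻¹ := by rw [h1]
    _ = w * n * w⁻¹ := by group

section

variable (hω : ∃ ω : F, ω ≠ 0 ∧ ω ≠ 1)

include hG h hq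

theorem Kap_e_ne {u : G} (hu : u ∈ U) {l j : Fin k} (hj : j ≠ l) (n : ↥(Nc M l)) :
    M.e ((Kap hG S h M (hq.UP hu) l n : ↥(zc (o2 P))) : G) j = 0 := by
  have hnV := Sd.Nc_le M l n.2
  have h1 := (U_acts hG S h hq l.pos hu (M := M)).1 _ hnV j
  rw [Kap_val, e_div M (conj_mem_zl (hq.UP hu) hnV) hnV, Pi.sub_apply, h1, Sd.e_Nc M n.2 hj, ap_zero2, sub_self]

theorem Kap_e {u : G} (hu : u ∈ U) {l : Fin k} (n : ↥(Nc M l)) :
    M.e ((Kap hG S h M (hq.UP hu) l n : ↥(zc (o2 P))) : G) l = ![bt M u l * M.e (n : G) l 1, 0] := by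
  have hnV := Sd.Nc_le M l n.2
  have h1 := (U_acts hG S h hq l.pos hu (M := M)).1 _ hnV l
  rw [Kap_val, e_div M (conj_mem_zl (hq.UP hu) hnV) hnV, Pi.sub_apply, h1, ap_up2]
  apply ext2
  · simp
  · simp

include hω in
theorem Kap_one [Finite F] (hF : 4 ≤ Nat.card F) {S₁ : Subgroup G} {J : Fin k → Prop} (Q : Hf M S₁ J) {u : G}
    (hu : u ∈ U) {l : Fin k} (n : ↥(Nc M l)) (h0 : M.e (n : G) l 1 = 0) : Kap hG S h M (hq.UP hu) l n = 1 := by
  obtain ⟨t, ht, hA⟩ := Q.exists_unip S h l (bt M u l)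
  have h1 := (U_acts hG S h hq l.pos hu (M := M)).1
  have h2 := eq_on_Nc hG S h hω (hq.UP hu) hA.1 (fun v hv => h1 v hv l) (fun v hv => hA.same hv) n.2
  have h3 := fix_line hG S h l.pos hF hA (Sd.Nc_le M l n.2) h0
  apply Subtype.ext
  rw [Kap_val, h2, h3, mul_inv_cancel]
  rfl

end

open Classical in
/-- `(n_l) ↦ ∏_{l ∉ J} [u_l, n_l]` -/
noncomputable def Phi (hG : IsCharacteristicTwoType G) (S : Sylow 2 G) {P : Subgroup G}
    (h : IsParS (S : Subgroup G) P) {k : ℕ}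
    (M : NatK F (S : Subgroup G) P (zl (S : Subgroup G) P) (cv (S : Subgroup G) P) k) (J : Fin k → Prop)
    {us : Fin k → G} (hu : ∀ l, us l ∈ P) : ((l : Fin k) → ↥(Nc M l)) →* ↥(zc (o2 P)) :=
  ∏ l ∈ Finset.univ.filter fun l => ¬ J l, (Kap hG S h M (hu l) l).comp (Pi.evalMonoidHom _ l)

open Classical in
theorem Phi_apply {J : Fin k → Prop} {us : Fin k → G} (hu : ∀ l, us l ∈ P) (n : (l : Fin k) → ↥(Nc M l)) :
    Phi hG S h M J hu n = ∏ l ∈ Finset.univ.filter fun l => ¬ J l, Kap hG S h M (hu l) l (n l) := by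
  rw [Phi, MonoidHom.finsetProd_apply]
  rfl

theorem Phi_VA {J : Fin k → Prop} {us : Fin k → G} (hu : ∀ l, us l ∈ P) (n : (l : Fin k) → ↥(Nc M l)) :
    Phi hG S h M J hu n ∈ VA S P := by
  rw [Phi_apply]
  exact Subgroup.prod_mem _ fun l _ => Kap_VA hG S h (hu l) (n l)

theorem Kap_mem {J : Fin k → Prop} {us : Fin k → G} (hu : ∀ l, us l ∈ P) {l : Fin k} (hl : ¬ J l) (n : ↥(Nc M l)) :
    Kap hG S h M (hu l) l n ∈ (Phi hG S h M J hu).range := by
  classical
  refine ⟨Pi.mulSingle l n, ?_⟩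
  rw [Phi_apply, Finset.prod_eq_single l]
  · rw [Pi.mulSingle_eq_same]
  · intro j _ hj
    rw [Pi.mulSingle_eq_of_ne hj, map_one]
  · intro h1
    exact absurd (Finset.mem_filter.2 ⟨Finset.mem_univ l, hl⟩) h1

section two

variable {us : Fin k → G} (hus : ∀ l, us l ∈ U)

include hG h hq in
theorem Phi_e_J {J : Fin k → Prop} {l : Fin k} (hl : J l) (n : (l : Fin k) → ↥(Nc M l)) :
    M.e ((Phi hG S h M J (fun l => hq.UP (hus l)) n : ↥(zc (o2 P))) : G) l = 0 := by
  classical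
  rw [Phi_apply, (e_prod S _ _ fun l _ => Kap_VA hG S h _ (n l)).2, Finset.sum_apply]
  refine Finset.sum_eq_zero fun j hj => ?_
  have hj1 : ¬ J j := (Finset.mem_filter.1 hj).2
  exact Kap_e_ne hG S h hq (hus j) (fun h1 : l = j => hj1 (h1 ▸ hl)) (n j)

include hG h hq in
theorem Phi_e {J : Fin k → Prop} {l : Fin k} (hl : ¬ J l) (n : (l : Fin k) → ↥(Nc M l)) :
    M.e ((Phi hG S h M J (fun l => hq.UP (hus l)) n : ↥(zc (o2 P))) : G) l =
      ![bt M (us l) l * M.e (n l : G) l 1, 0] := by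
  classical
  rw [Phi_apply, (e_prod S _ _ fun l _ => Kap_VA hG S h _ (n l)).2, Finset.sum_apply, Finset.sum_eq_single l]
  · exact Kap_e hG S h hq (hus l) (n l)
  · intro j _ hj
    exact Kap_e_ne hG S h hq (hus j) hj.symm (n j)
  · intro h1
    exact absurd (Finset.mem_filter.2 ⟨Finset.mem_univ l, hl⟩) h1

include hG h hq in
theorem Phi_mem_U {J : Fin k → Prop} (n : (l : Fin k) → ↥(Nc M l)) :
    ((Phi hG S h M J (fun l => hq.UP (hus l)) n : ↥(zc (o2 P))) : G) ∈ U := by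
  have h1 : Phi hG S h M J (fun l => hq.UP (hus l)) n ∈ U.subgroupOf (zc (o2 P)) := by
    rw [Phi_apply]
    refine Subgroup.prod_mem _ fun l _ => ?_
    rw [mem_subgroupOf, Kap_val]
    exact hq.cm_mem (hus l) (hq.VS (Sd.Nc_le M l (n l).2))
  exact mem_subgroupOf.1 h1

include hG h hq in
theorem Phi_one (hω : ∃ ω : F, ω ≠ 0 ∧ ω ≠ 1) [Finite F] (hF : 4 ≤ Nat.card F) {S₁ : Subgroup G}
    {J : Fin k → Prop} (Q : Hf M S₁ J)
    (hb : ∀ l, bt M (us l) l ≠ 0) (n : (l : Fin k) → ↥(Nc M l))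
    (h0 : M.e ((Phi hG S h M J (fun l => hq.UP (hus l)) n : ↥(zc (o2 P))) : G) = 0) :
    Phi hG S h M J (fun l => hq.UP (hus l)) n = 1 := by
  classical
  rw [Phi_apply]
  refine Finset.prod_eq_one fun l hl => ?_
  have hl1 : ¬ J l := (Finset.mem_filter.1 hl).2
  refine Kap_one hG S h hq hω hF Q (hus l) (n l) ?_
  have h1 := Phi_e hG S h hq hus hl1 n
  rw [h0] at h1
  have h2 := congrFun h1 0
  simp only [Pi.zero_apply, Matrix.cons_val_zero] at h2
  rcases mul_eq_zero.1 h2.symm with h3 | h3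
  · exact absurd h3 (hb l)
  · exact h3

include hG h hq in
theorem Phi_norm (hω : ∃ ω : F, ω ≠ 0 ∧ ω ≠ 1) {S₁ : Subgroup G} {J : Fin k → Prop} (Q : Hf M S₁ J)
    (hb : ∀ l, bt M (us l) l ≠ 0) (h2 : ∀ l, (centralizer (Nc M l : Set G)).relIndex U ≤ 2) {s : G} (hs : s ∈ S₁)
    {y : ↥(zc (o2 P))} (hy : y ∈ (Phi hG S h M J (fun l => hq.UP (hus l))).range) :
    cA (h.le (Q.le hs)) y ∈ (Phi hG S h M J (fun l => hq.UP (hus l))).range := by
  classical
  obtain ⟨n, rfl⟩ := hy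
  have hsS := Q.le hs
  have hsP := h.le hsS
  rw [Phi_apply, map_prod]
  refine Subgroup.prod_mem _ fun l hl => ?_
  have hl1 : ¬ J l := (Finset.mem_filter.1 hl).2
  obtain ⟨l', hm⟩ := exists_Mv (M := M) hsP l
  have hl' : ¬ J l' := fun h1 => hl1 ((Q.stab s hs l l' hm).2 h1)
  have hu' : s * us l * s⁻¹ ∈ U := (mem_normalizer_iff.1 (hq.SU hsS) _).1 (hus l)
  have hb' : bt M (s * us l * s⁻¹) l' ≠ 0 := by
    intro h0
    rw [← mem_cent_iff hG S h hq hω hu'] at h0
    apply hb l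
    rw [← mem_cent_iff hG S h hq hω (hus l)]
    refine mem_centralizer_iff.2 fun x hx => ?_
    have h3 := mem_centralizer_iff.1 h0 _ (Nc_mvK hsP hm hx)
    calc x * us l = s⁻¹ * ((s * x * s⁻¹) * (s * us l * s⁻¹)) * s := by group
      _ = s⁻¹ * ((s * us l * s⁻¹) * (s * x * s⁻¹)) * s := by rw [h3]
      _ = us l * x := by group
  have hbb := eq_of_le_two hG S h hq hω (h2 l') hu' (hus l') hb' (hb l')
  have hn' := Nc_mvK hsP hm (n l).2
  have key : cA hsP (Kap hG S h M (hq.UP (hus l)) l (n l)) =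
      Kap hG S h M (hq.UP (hus l')) l' ⟨s * (n l : G) * s⁻¹, hn'⟩ := by
    apply Subtype.ext
    rw [cA_val, Kap_val, Kap_val]
    have h3 := eq_on_Nc hG S h hω (A := up (bt M (us l') l')) (hq.UP hu') (hq.UP (hus l')) (fun v hv => by
      have h4 := (U_acts hG S h hq l.pos hu' (M := M)).1 v hv l'
      rw [h4]
      change ap (up (bt M (s * us l * s⁻¹) l')) (M.e v l') = _
      rw [hbb]) (fun v hv => (U_acts hG S h hq l.pos (hus l') (M := M)).1 v hv l') hn'
    change _ = us l' * (s * (n l : G) * s⁻¹) * (us l')⁻¹ * (s * (n l : G) * s⁻¹)⁻¹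
    rw [← h3]
    group
  rw [key]
  exact Kap_mem hG S h (fun l => hq.UP (hus l)) hl' _

end two

/-! ### the projection on the fixed vectors of the torus kills the coordinates -/

section avg

variable [Fintype F] [DecidableEq F]

include hG h in
theorem eA_coord_same (hF : 4 ≤ Nat.card F) (i : Fin k) {v : ↥(zc (o2 P))} (hv : v ∈ VA S P) :
    M.e ((eA S M i v : ↥(zc (o2 P))) : G) i = 0 := by
  obtain ⟨ω, h0, h1⟩ := exists_omega hF
  have h2 := eA_tor hG S h i.pos M i (Units.mk0 ω h0) v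
  have h3 := congrArg (fun a : ↥(zc (o2 P)) => M.e (a : G) i) h2
  have hV := (mem_VA S).1 (eA_VA S M (i := i) hv)
  change M.e ((rh S M i (dg ((Units.mk0 ω h0 : Fˣ) : F) (Units.mk0 ω h0).ne_zero) (eA S M i v) : ↥(zc (o2 P))) : G) i =
    M.e ((eA S M i v : ↥(zc (o2 P))) : G) i at h3
  rw [rh_val hG S h i.pos M (lf_spec S M i _), (lf_spec S M i _).same hV] at h3
  have h4 := congrFun h3 0
  have h5 := congrFun h3 1
  rw [ap_zero'] at h4
  rw [ap_one'] at h5
  simp at h4 h5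
  have a1 : (ω - 1) * M.e ((eA S M i v : ↥(zc (o2 P))) : G) i 0 = 0 := by linear_combination h4
  have a2 : (ω⁻¹ - 1) * M.e ((eA S M i v : ↥(zc (o2 P))) : G) i 1 = 0 := by linear_combination h5
  apply ext2
  · exact (mul_eq_zero.1 a1).resolve_left (sub_ne_zero.2 h1)
  · exact (mul_eq_zero.1 a2).resolve_left (sub_ne_zero.2 fun h => h1 (inv_eq_one.1 h))

include hG h in
theorem eL_coord_mem (hF : 4 ≤ Nat.card F) {L : List (Fin k)} {i : Fin k} (hi : i ∈ L) {v : ↥(zc (o2 P))}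
    (hv : v ∈ VA S P) : M.e ((eL S M L v : ↥(zc (o2 P))) : G) i = 0 := by
  induction L with
  | nil => exact absurd hi List.not_mem_nil
  | cons j L ih =>
    by_cases hij : i = j
    · subst hij
      rw [eL_cons]
      exact eA_coord_same hG S h hF i (eL_VA S M L hv)
    · rcases List.mem_cons.1 hi with h1 | h1
      · exact absurd h1 hij
      · rw [eL_cons, eA_coord hG S h i.pos M hij (eL_VA S M L hv)]
        exact ih h1

end avg

/-! ### `X` -/

section fin

variable [Fintype F] [DecidableEq F]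

include hG h hq in
/-- **the case `|T| = 2`** -/
theorem exists_Y (hF : 4 ≤ Nat.card F) {S₁ : Subgroup G} {J : Fin k → Prop} (Q : Hf M S₁ J)
    (h2 : ∀ l, (centralizer (Nc M l : Set G)).relIndex U = 2) {E : Subgroup G} (hEU : E ≤ U)
    (hED : E ≤ cv (S : Subgroup G) P) (hES : ∀ d ∈ E, ∀ s ∈ (S : Subgroup G), s * d = d * s) (hE : E ≠ ⊥) :
    ∃ X ≤ U, 2 < Nat.card X ∧ ∀ x ∈ X, ∃ (r : ↥(zc (o2 P))) (d : G), x = (r : G) * d ∧
      d ∈ cv (S : Subgroup G) P ∧ (∀ s ∈ S₁, s * d = d * s) ∧ (r : G) ∈ zl (S : Subgroup G) P ∧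
      (∀ l, J l → M.e (r : G) l = 0) ∧ (∀ l, M.e (r : G) l 1 = 0) ∧ eL S M (LJ fun l => ¬ J l) r = 1 ∧
      ((∀ l, ¬ J l → M.e (r : G) l ≠ 0) ∨ r = 1) := by
  have hω := exists_omega hF
  have hk := Q.pos S
  -- `u_l`
  have hex : ∀ l, ∃ u ∈ U, bt M u l ≠ 0 := by
    intro l
    by_contra hcon
    push Not at hcon
    have h3 : U ≤ centralizer (Nc M l : Set G) := fun u hu => (mem_cent_iff hG S h hq hω hu).2 (hcon u hu)
    have h4 := h2 l
    rw [relIndex_eq_one.2 h3] at h4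
    omega
  choose us hus hb using hex
  have hle : ∀ l, (centralizer (Nc M l : Set G)).relIndex U ≤ 2 := fun l => (h2 l).le
  set Φ := Phi hG S h M J (fun l => hq.UP (hus l)) with hΦ
  -- a fixed point
  set Y : Subgroup G := Φ.range.map (zc (o2 P)).subtype with hY
  have hYne : Y ≠ ⊥ := by
    intro h3
    obtain ⟨l, hl⟩ := Q.exN
    obtain ⟨n, hn, he⟩ := Sd.Nc_surj M l ![0, 1]
    have h4 := Kap_mem hG S h (J := J) (fun l => hq.UP (hus l)) hl ⟨n, hn⟩
    have h5 : ((Kap hG S h M (hq.UP (hus l)) l ⟨n, hn⟩ : ↥(zc (o2 P))) : G) ∈ Y := ⟨_, h4, rfl⟩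
    rw [h3, mem_bot] at h5
    have h6 := Kap_e hG S h hq (hus l) ⟨n, hn⟩
    rw [h5, e_one M, he] at h6
    have h7 := congrFun h6 0
    simp at h7
    exact hb l h7.symm
  have hYV : ∀ y ∈ Y, y ∈ zl (S : Subgroup G) P := by
    rintro _ ⟨_, ⟨n, rfl⟩, rfl⟩
    exact (mem_VA S).1 (Phi_VA hG S h _ n)
  obtain ⟨y₀, hy₀, hne, hfix⟩ := AdjTransv.exists_fixed (S := S₁) (N := Y) (S.isPGroup'.to_le Q.le) hYne
    (fun n hn => sq_zl hG S h (hYV n hn)) (by
      rintro s hs _ ⟨y, hy, rfl⟩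
      exact ⟨_, Phi_norm hG S h hq hus hω Q hb hle hs hy, rfl⟩)
  obtain ⟨y, ⟨n, hn⟩, rfl⟩ := hy₀
  have hyU : (y : G) ∈ U := by
    rw [← hn]
    exact Phi_mem_U hG S h hq hus n
  have hyVA : y ∈ VA S P := by
    rw [← hn]
    exact Phi_VA hG S h _ n
  have hyV := (mem_VA S).1 hyVA
  have hyJ : ∀ l, J l → M.e (y : G) l = 0 := fun l hl => by
    rw [← hn]
    exact Phi_e_J hG S h hq hus hl n
  have hy1 : ∀ l, M.e (y : G) l 1 = 0 := by
    intro l
    by_cases hl : J l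
    · rw [hyJ l hl]; rfl
    · rw [← hn, Phi_e hG S h hq hus hl n]
      simp
  have hy0 : M.e (y : G) ≠ 0 := by
    intro h0
    apply hne
    rw [← hn] at h0
    have h3 := Phi_one hG S h hq hus hω hF Q hb n h0
    change (y : G) = 1
    rw [← hn]
    exact congrArg Subtype.val h3
  change ∀ s ∈ S₁, s * (y : G) * s⁻¹ = y at hfix
  have hfull : ∀ l, ¬ J l → M.e (y : G) l ≠ 0 := by
    obtain ⟨l₀, hl₀⟩ : ∃ l, M.e (y : G) l ≠ 0 := by
      by_contra hcon
      push Not at hcon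
      exact hy0 (funext hcon)
    have hJ₀ : ¬ J l₀ := fun h1 => hl₀ (hyJ _ h1)
    intro l hl h0
    obtain ⟨s, hs, hm⟩ := Q.transN l₀ l hJ₀ hl
    have h1 := hm _ hyV
    rw [hfix s hs] at h1
    exact hl₀ (h1.1 h0)
  have hysq : y * y = 1 := A_sq y
  have hyS : (y : G) ∈ zc S₁ := MinSimple.VModule.mem_zc.2 ⟨Q.V_le hG S h hyV, fun s hs => by
    have h1 := hfix s hs
    exact mul_inv_eq_iff_eq_mul.1 h1, zc_sq _ _ y.2⟩
  -- the decomposition of `y`
  set L := LJ fun l => ¬ J l with hL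
  set d := eL S M L y with hd
  have hdVA : d ∈ VA S P := eL_VA S M L hyVA
  have hd0 : M.e (d : G) = 0 := by
    funext l
    by_cases hl : J l
    · rw [hd, eL_coord hG S h hk M (fun h1 => (mem_LJ.1 h1) hl) hyVA, hyJ l hl]
      rfl
    · exact eL_coord_mem hG S h hF (mem_LJ.2 hl) hyVA
  have hdcv : (d : G) ∈ cv (S : Subgroup G) P := (M.ker _ ((mem_VA S).1 hdVA)).1 hd0
  have hdS : ∀ s ∈ S₁, s * (d : G) = d * s := by
    intro s hs
    have h1 : cA (h.le (Q.le hs)) y = y := Subtype.ext (by rw [cA_val]; exact hfix s hs)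
    have h3 := Q.symm.conj_eJ hG S h hs (a := y) (by rw [h1]; exact Q.fx hG S h hyS)
    rw [h1] at h3
    have h4 := congrArg Subtype.val h3
    rw [cA_val] at h4
    exact mul_inv_eq_iff_eq_mul.1 h4
  have hr1 : eL S M L (y * d) = 1 := by
    rw [map_mul, hd, eL_idem hG S h hk M]
    exact A_sq _
  have hre : ∀ l, M.e ((y * d : ↥(zc (o2 P))) : G) l = M.e (y : G) l := by
    intro l
    change M.e ((y : G) * (d : G)) l = _
    rw [M.mul _ hyV _ ((mem_VA S).1 hdVA), Pi.add_apply, hd0, Pi.zero_apply, add_zero]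
  have hEV : ∀ e ∈ E, e ∈ zl (S : Subgroup G) P := fun e he => cv_le _ _ (hED he)
  -- `X`
  let X : Subgroup G :=
    { carrier := {x | x ∈ E ∨ ∃ e ∈ E, x = (y : G) * e}
      one_mem' := Or.inl (one_mem E)
      mul_mem' := by
        rintro a b (ha | ⟨e, he, rfl⟩) (hb | ⟨e', he', rfl⟩)
        · exact Or.inl (mul_mem ha hb)
        · refine Or.inr ⟨a * e', mul_mem ha he', ?_⟩
          rw [← mul_assoc, ← mul_assoc, Sd.V_comm hG S h (hEV a ha) hyV]
        · exact Or.inr ⟨e * b, mul_mem he hb, by rw [mul_assoc]⟩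
        · refine Or.inl ?_
          have h3 := Sd.V_comm hG S h (hEV e he) hyV
          have h4 : (y : G) * y = 1 := congrArg Subtype.val hysq
          have h5 : (y : G) * e * ((y : G) * e') = e * e' := by
            calc (y : G) * e * ((y : G) * e') = (y : G) * (e * y) * e' := by group
              _ = (y : G) * (y * e) * e' := by rw [h3]
              _ = ((y : G) * y) * (e * e') := by group
              _ = e * e' := by rw [h4, one_mul]
          rw [h5]
          exact mul_mem he he'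
      inv_mem' := by
        rintro a (ha | ⟨e, he, rfl⟩)
        · exact Or.inl (inv_mem ha)
        · refine Or.inr ⟨e⁻¹, inv_mem he, ?_⟩
          have h4 : (y : G)⁻¹ = y := inv_eq_of_mul_eq_one_left (congrArg Subtype.val hysq)
          rw [mul_inv_rev, h4]
          exact Sd.V_comm hG S h (inv_mem (hEV e he)) hyV }
  refine ⟨X, ?_, ?_, ?_⟩
  · rintro x (hx | ⟨e, he, rfl⟩)
    · exact hEU hx
    · exact mul_mem hyU (hEU he)
  · obtain ⟨e, he, he1⟩ := (bot_or_exists_ne_one E).resolve_left hE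
    have hyE : (y : G) ∉ E := fun h1 => hy0 ((M.ker _ hyV).2 (hED h1))
    have hinj : Function.Injective (fun x : Fin 3 => (![1, ⟨e, Or.inl he⟩, ⟨(y : G), Or.inr ⟨1, one_mem E,
        (mul_one _).symm⟩⟩] : Fin 3 → X) x) := by
      have a1 : (y : G) ≠ 1 := fun h1 => hyE (h1 ▸ one_mem E)
      have a2 : e ≠ y := fun h1 => hyE (h1 ▸ he)
      intro a b hab
      have hab' := congrArg Subtype.val hab
      fin_cases a <;> fin_cases b <;> simp at hab' ⊢
      · exact he1 hab'.symm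
      · exact a1 (by simpa using hab'.symm)
      · exact he1 hab'
      · exact a2 hab'
      · exact a1 (by simpa using hab')
      · exact a2 hab'.symm
    have h6 := Nat.card_le_card_of_injective _ hinj
    rw [Nat.card_eq_fintype_card (α := Fin 3), Fintype.card_fin] at h6
    omega
  · rintro x (hx | ⟨e, he, rfl⟩)
    · refine ⟨1, x, (one_mul x).symm, hED hx, fun s hs => hES x hx s (Q.le hs), one_mem _, fun l _ => ?_, fun l => ?_,
        map_one _, Or.inr rfl⟩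
      · change M.e 1 l = 0
        rw [e_one M]; rfl
      · change M.e 1 l 1 = 0
        rw [e_one M]; rfl
    · refine ⟨y * d, (d : G) * e, ?_, mul_mem hdcv (hED he), fun s hs => ?_, ?_, fun l hl => ?_, fun l => ?_, hr1,
        Or.inl fun l hl => ?_⟩
      · have h4 : (d : G) * d = 1 := congrArg Subtype.val (A_sq d)
        change (y : G) * e = (y : G) * d * (d * e)
        rw [mul_assoc (y : G), ← mul_assoc (d : G), h4, one_mul]
      · have h4 := hES e he s (Q.le hs)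
        have h5 := hdS s hs
        calc s * ((d : G) * e) = (s * d) * e := by group
          _ = d * (s * e) := by rw [h5]; group
          _ = (d : G) * e * s := by rw [h4]; group
      · exact mul_mem hyV ((mem_VA S).1 hdVA)
      · rw [hre, hyJ l hl]
      · rw [hre, hy1]
      · rw [hre]
        exact hfull l hl

end fin

end main

end Cfsg.Agent.Omega.NOThreeL.KTwo

end

section


/-!
# NO-3L, `R ∩ (A)`, `k ≥ 2`: THEOREM K (#21065, helper162), (3): from good elements to `[N_l, U] = 1`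

* `cent_of_good` : `X ≤ U`, `|U : C_U(N_l)| < |X|`, every `1 ≠ x ∈ X` good for `J` implies `[N_l, U] = 1`, `l ∈ J`;
* `zl_le_of` : all `[N_l, U] = 1` implies `[V, U] = 1`;
* `quad_of_loc` : `Quad S P (zl S H)` for all local `H`.
-/

set_option autoImplicit false
set_option linter.unusedSectionVars false

namespace Cfsg.Agent.Omega.NOThreeL.KTwo

open Subgroup Cfsg Cfsg.Agent.ZN Cfsg.Agent.Omega.MinPar
open Cfsg.Agent.Omega.FrameFF Cfsg.Agent.Omega.FFThm Cfsg.Agent.Lib.SL2Mat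
open Cfsg.Agent.Omega.NatPair (ap ap_add ap_mul ap_one ap_inj ext2 ap_zero' ap_one' ap_inv_ap ap_ap_inv)
open Cfsg.Agent.Omega.HOne (cv_le conj_mem_zl conj_mem_cv)
open Cfsg.Agent.Omega.IId.Cv Cfsg.Agent.Omega.IId.Ns
open Cfsg.Agent.Omega.NOThreeL.AFour (Quad)
open Cfsg.Agent.Omega.NOThreeL.KTwo.Defs
open Cfsg.Agent.Omega.NoFF.Basic (conj_conj conj_le_centralizer comm_symm)
open scoped Pointwise

universe u

variable {G : Type u} [Group G] {F : Type} [Field F]

section main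

variable [Finite G] [CharP F 2] (hG : IsCharacteristicTwoType G) (S : Sylow 2 G) {P : Subgroup G}
  (h : IsParS (S : Subgroup G) P) {k : ℕ}
  {M : NatK F (S : Subgroup G) P (zl (S : Subgroup G) P) (cv (S : Subgroup G) P) k}
  {U : Subgroup G} (hq : Quad (S : Subgroup G) P U)

include hq in
/-- **from good elements to `[N_l, U] = 1`** -/
theorem cent_of_good {J : Fin k → Prop} {H X : Subgroup G} (hSH : (S : Subgroup G) ≤ H)
    (hHU : H ≤ normalizer (U : Set G)) (ho : o2 H ≤ centralizer (U : Set G)) (hX : X ≤ U)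
    (hlt : ∀ l, J l → (centralizer (Nc M l : Set G)).relIndex U < Nat.card X)
    (hgood : ∀ x ∈ X, x ≠ 1 → Good M J x) {l : Fin k} (hl : J l) : Nc M l ≤ centralizer (U : Set G) := by
  have hNS : Nc M l ≤ (S : Subgroup G) := (Sd.Nc_le M l).trans hq.VS
  refine end_of (hNS.trans hSH) (S.isPGroup'.to_le hNS) hHU hX (hlt l hl) (fun x hx hx1 g hg g' hg' => ?_) ho
  have h1 := hgood x hx hx1 l hl (g⁻¹ * g') (mul_mem (inv_mem hg) hg')
  have h2 := conj_le_centralizer (g := g) h1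
  rwa [conj_conj, mul_inv_cancel_left] at h2

include hG h hq in
/-- `[N_l, U] = 1` for all `l` implies `[V, U] = 1` -/
theorem zl_le_of (hω : ∃ ω : F, ω ≠ 0 ∧ ω ≠ 1) (hk : 0 < k)
    (hc : ∀ l, Nc M l ≤ centralizer (U : Set G)) : zl (S : Subgroup G) P ≤ centralizer (U : Set G) := by
  refine comm_symm fun u hu => mem_centralizer_iff.2 fun v hv => ?_
  have h1 : u ∈ kern M := by
    refine ⟨hq.UP hu, fun v hv => ?_⟩
    funext l
    have h2 : bt M u l = 0 := (mem_cent_iff hG S h hq hω hu).1 (comm_symm (hc l) hu)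
    rw [(U_acts hG S h hq hk hu (M := M)).1 v hv l]
    change ap (up (bt M u l)) (M.e v l) = _
    rw [h2, up_zero, ap_one]
  exact (comm_of_quot hG S h M hk (hq.US hu) h1 v hv).symm

end main

section loc

variable [Finite G] (hG : IsCharacteristicTwoType G) (S : Sylow 2 G) {P H : Subgroup G}

include hG in
theorem quad_of_loc (h : IsParS (S : Subgroup G) P) (hH : IsLoc (S : Subgroup G) H) :
    Quad (S : Subgroup G) P (zl (S : Subgroup G) H) where
  SP := h.le
  VS := (h.isLoc.zl_le S hG).trans ((MinSimple.VModule.zc_le _).trans (h.isLoc.o2_le S))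
  US := (hH.zl_le S hG).trans ((MinSimple.VModule.zc_le _).trans (hH.o2_le S))
  SU := hH.le.trans (le_normalizer_zl _ _)
  ab u hu _ hv := mem_centralizer_iff.1 ((NOThreeL.Pair.zl_abel hG S hH).1 hv) u hu
  sq u hu := by
    rw [← pow_two]
    exact (NOThreeL.Pair.zl_abel hG S hH).2 u hu

include hG in
theorem o2_le_cent (hH : IsLoc (S : Subgroup G) H) : o2 H ≤ centralizer (zl (S : Subgroup G) H : Set G) :=
  comm_symm fun _ hu => mem_centralizer_iff.2 fun x hx => (MinSimple.VModule.mem_zc.1 (hH.zl_le S hG hu)).2.1 x hx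

end loc

end Cfsg.Agent.Omega.NOThreeL.KTwo

end

section


/-!
# NO-3L, `R ∩ (A)`, `k ≥ 2`: THEOREM K (#21065, helper162), (3): the case `|T| > 2`

`|U : C_U(N_l)| > 2` for all `l`: two elements `u, w ∈ U` with different nonzero parameters `t ≠ t'` at `l`;
`λ² t = t'`, `x` a lift of `diag (λ, λ⁻¹)` in the `l`-th block, `n ∈ N_l`: `[u, n] · x [u, n] x⁻¹ ∈ U` has the
coordinates `((1 + λ) t c, 0)` at `l` and is killed by `e_l`.

* `exists_rho` : the vectors `ρ_{l,s} ∈ U ∩ V`;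
* `exists_X` .
-/

set_option autoImplicit false
set_option linter.unusedSectionVars false

namespace Cfsg.Agent.Omega.NOThreeL.KTwo

open Subgroup Cfsg Cfsg.Agent.ZN Cfsg.Agent.Omega.MinPar
open Cfsg.Agent.Omega.FrameFF Cfsg.Agent.Omega.FFThm Cfsg.Agent.Lib.SL2Mat
open Cfsg.Agent.Omega.NatPair (ap ap_add ap_mul ap_one ap_inj ext2 ap_zero' ap_one' ap_inv_ap ap_ap_inv)
open Cfsg.Agent.Omega.HOne (cv_le conj_mem_zl conj_mem_cv)
open Cfsg.Agent.Omega.IId.Cv Cfsg.Agent.Omega.IId.Ns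
open Cfsg.Agent.Omega.NOThreeL.AFour (Quad)
open Cfsg.Agent.Omega.NOThreeL.KTwo.Defs
open Cfsg.Agent.MinSimple.VModule (zc_comm zc_sq zc_le mem_zc le_normalizer_o2 normalizer_le_normalizer_zc zc_le_zl
  o2_isPGroup o2_le)
open scoped Pointwise

universe u

variable {G : Type u} [Group G] {F : Type} [Field F]

attribute [local instance] aqComm

section main

variable [Finite G] [CharP F 2] (hG : IsCharacteristicTwoType G) (S : Sylow 2 G) {P : Subgroup G}
  (h : IsParS (S : Subgroup G) P) {k : ℕ}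
  {M : NatK F (S : Subgroup G) P (zl (S : Subgroup G) P) (cv (S : Subgroup G) P) k}
  {U : Subgroup G} (hq : Quad (S : Subgroup G) P U)

variable [Fintype F] [DecidableEq F]

include hG h hq in
/-- the vector `(s, 0)` of the `l`-th block, in `U` -/
theorem exists_rho (hF : 4 ≤ Nat.card F) {l : Fin k} (h3 : 2 < (centralizer (Nc M l : Set G)).relIndex U) (s : F) :
    ∃ r : ↥(zc (o2 P)), (r : G) ∈ U ∧ r ∈ VA S P ∧ M.e (r : G) l = ![s, 0] ∧ (∀ j, j ≠ l → M.e (r : G) j = 0) ∧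
      eA S M l r = 1 := by
  have hk : 0 < k := l.pos
  have hω := exists_omega hF
  obtain ⟨u, hu, w, hw, hu0, hw0, hne⟩ := exists_two hG S h hq hω h3
  set t := bt M u l with ht
  set t' := bt M w l with ht'
  obtain ⟨m, hm⟩ : IsSquare (t' / t) := FiniteField.isSquare_of_char_two (ringChar.eq F 2) _
  have hm0 : m ≠ 0 := by
    rintro rfl
    rw [mul_zero, div_eq_zero_iff] at hm
    exact hm.elim hw0 hu0
  have hmt : m ^ 2 * t = t' := by
    rw [pow_two, ← hm]
    field_simp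
  have hm1 : 1 + m ≠ 0 := by
    intro h1
    have h2 : m = 1 := by
      have htwo : (2 : F) = 0 := CharTwo.two_eq_zero
      linear_combination h1 - htwo
    rw [h2, one_pow, one_mul] at hmt
    exact hne hmt
  set c := s / (t * (1 + m)) with hc
  obtain ⟨n, hn, hne'⟩ := Sd.Nc_surj M l ![0, c]
  have hnV := Sd.Nc_le M l hn
  have hx := lf_spec S M l (dg m hm0)
  set x := lf S M l (dg m hm0) with hxd
  set κ := Kap hG S h M (hq.UP hu) l ⟨n, hn⟩ with hκ
  have hκV : κ ∈ VA S P := Kap_VA hG S h _ _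
  have hκl : M.e (κ : G) l = ![t * c, 0] := by
    have h1 := Kap_e hG S h hq hu (M := M) (⟨n, hn⟩ : ↥(Nc M l))
    rw [hκ, h1]
    change ![bt M u l * M.e n l 1, 0] = _
    rw [hne']
    rfl
  have hκj : ∀ j, j ≠ l → M.e (κ : G) j = 0 := fun j hj => Kap_e_ne hG S h hq hu hj _
  have hκU : (κ : G) ∈ U := by
    rw [hκ, Kap_val]
    exact hq.cm_mem hu (hq.VS hnV)
  set κ' := rh S M l (dg m hm0) κ with hκ'
  have hκ'v : (κ' : G) = x * κ * x⁻¹ := rh_val hG S h hk M hx κ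
  have hκ'V : κ' ∈ VA S P := rh_VA S M l _ hκV
  have hn' : x * n * x⁻¹ ∈ Nc M l := Nc_mvK hx.1 hx.mv hn
  have hxu : x * u * x⁻¹ ∈ P := mul_mem (mul_mem hx.1 (hq.UP hu)) (inv_mem hx.1)
  have hact : ∀ v ∈ zl (S : Subgroup G) P, M.e (x * u * x⁻¹ * v * (x * u * x⁻¹)⁻¹) l = ap (up t') (M.e v l) := by
    intro v hv
    have h1 := hx.inv.same hv
    have h2 := (U_acts hG S h hq hk hu (M := M)).1 _ (hx.inv.V hv) l
    have h4 := hx.same (conj_mem_zl (hq.UP hu) (hx.inv.V hv))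
    have e : x * u * x⁻¹ * v * (x * u * x⁻¹)⁻¹ = x * (u * (x⁻¹ * v * x⁻¹⁻¹) * u⁻¹) * x⁻¹ := by group
    rw [e, h4, h2, h1]
    change ap (dg m hm0) (ap (up t) (ap (dg m hm0)⁻¹ (M.e v l))) = _
    rw [← ap_mul, ← ap_mul, dg_up, hmt, mul_inv_cancel_right]
  have hκ'U : (κ' : G) ∈ U := by
    have h1 := eq_on_Nc hG S h hω (A := up t') hxu (hq.UP hw) hact
      (fun v hv => (U_acts hG S h hq hk hw (M := M)).1 v hv l) hn'
    have e : (κ' : G) = w * (x * n * x⁻¹) * w⁻¹ * (x * n * x⁻¹)⁻¹ := by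
      rw [← h1, hκ'v, hκ, Kap_val]
      change x * (u * n * u⁻¹ * n⁻¹) * x⁻¹ = _
      group
    rw [e]
    exact hq.cm_mem hw (hq.VS (Sd.Nc_le M l hn'))
  refine ⟨κ * κ', mul_mem hκU hκ'U, mul_mem hκV hκ'V, ?_, fun j hj => ?_, ?_⟩
  · change M.e ((κ : G) * κ') l = _
    rw [M.mul _ ((mem_VA S).1 hκV) _ ((mem_VA S).1 hκ'V), Pi.add_apply, hκ'v, hx.same ((mem_VA S).1 hκV), hκl]
    have e1 : t * c * (1 + m) = s := by
      rw [hc]
      field_simp
    apply ext2
    · rw [Pi.add_apply, ap_zero']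
      simp
      linear_combination e1
    · rw [Pi.add_apply, ap_one']
      simp
  · change M.e ((κ : G) * κ') j = _
    rw [M.mul _ ((mem_VA S).1 hκV) _ ((mem_VA S).1 hκ'V), Pi.add_apply, hκ'v, hx.ne ((mem_VA S).1 hκV) hj, hκj j hj,
      add_zero]
  · have h2 : eA S M l κ' = eA S M l κ := by
      rw [hκ', eA_apply, eA_apply]
      refine Fintype.prod_equiv (Equiv.mulRight (Units.mk0 m hm0)) _ _ fun l => ?_
      rw [← rh_mul hG S h hk, dg_mul_dg]
      rfl
    rw [map_mul, h2, A_sq]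

include hG h hq in
/-- **the case `|T| > 2`** -/
theorem exists_X (hF : 4 ≤ Nat.card F) {S₁ : Subgroup G} {J : Fin k → Prop} (Q : Hf M S₁ J)
    (h3 : ∀ l, 2 < (centralizer (Nc M l : Set G)).relIndex U) {E : Subgroup G} (hEU : E ≤ U)
    (hED : E ≤ cv (S : Subgroup G) P) (hE : E ≠ ⊥) :
    ∃ X ≤ U, Nat.card F < Nat.card X ∧ ∀ x ∈ X, ∃ (r : ↥(zc (o2 P))) (d : G), x = (r : G) * d ∧
      d ∈ E ∧ (r : G) ∈ zl (S : Subgroup G) P ∧ (∀ l, J l → M.e (r : G) l = 0) ∧
      (∀ l, M.e (r : G) l 1 = 0) ∧ eL S M (LJ fun l => ¬ J l) r = 1 ∧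
      ((∀ l, ¬ J l → M.e (r : G) l ≠ 0) ∨ r = 1) := by
  classical
  have hk := Q.pos S
  obtain ⟨l₀, hl₀⟩ := Q.exN
  choose ρ hρU hρV hρl hρj hρe using fun (l : Fin k) (s : F) => exists_rho hG S h hq hF (h3 l) s
  have hEV : ∀ e ∈ E, e ∈ zl (S : Subgroup G) P := fun e he => cv_le _ _ (hED he)
  -- `r_s`
  let rr : F → ↥(zc (o2 P)) := fun s => ∏ l ∈ Finset.univ.filter fun l => ¬ J l, ρ l s
  have hrV : ∀ s, rr s ∈ VA S P := fun s => Subgroup.prod_mem _ fun l _ => hρV l s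
  have hrU : ∀ s, ((rr s : ↥(zc (o2 P))) : G) ∈ U := fun s => by
    have h1 : rr s ∈ U.subgroupOf (zc (o2 P)) := Subgroup.prod_mem _ fun l _ => mem_subgroupOf.2 (hρU l s)
    exact mem_subgroupOf.1 h1
  have hre : ∀ s, M.e (rr s : G) = ∑ l ∈ Finset.univ.filter fun l => ¬ J l, M.e (ρ l s : G) := fun s =>
    (e_prod S _ _ fun l _ => hρV l s).2
  have hrJ : ∀ s l, J l → M.e (rr s : G) l = 0 := by
    intro s l hl
    rw [hre, Finset.sum_apply]
    refine Finset.sum_eq_zero fun j hj => hρj j s l ?_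
    rintro rfl
    exact (Finset.mem_filter.1 hj).2 hl
  have hrN : ∀ s l, ¬ J l → M.e (rr s : G) l = ![s, 0] := by
    intro s l hl
    rw [hre, Finset.sum_apply, Finset.sum_eq_single l]
    · exact hρl l s
    · intro j _ hj
      exact hρj j s l hj.symm
    · intro h1
      exact absurd (Finset.mem_filter.2 ⟨Finset.mem_univ l, hl⟩) h1
  have hrL : ∀ s, eL S M (LJ fun l => ¬ J l) (rr s) = 1 := by
    intro s
    change eL S M (LJ fun l => ¬ J l) (∏ l ∈ Finset.univ.filter fun l => ¬ J l, ρ l s) = 1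
    rw [map_prod]
    refine Finset.prod_eq_one fun l hl => ?_
    exact eL_one hG S h hk M (mem_LJ.2 (Finset.mem_filter.1 hl).2) (hρe l s)
  -- `X`
  let X : Subgroup G :=
    { carrier := {x | ∃ (r : ↥(zc (o2 P))) (d : G) (s : F), x = (r : G) * d ∧ d ∈ E ∧ (r : G) ∈ U ∧
        (r : G) ∈ zl (S : Subgroup G) P ∧ (∀ l, J l → M.e (r : G) l = 0) ∧ (∀ l, ¬ J l → M.e (r : G) l = ![s, 0]) ∧
        eL S M (LJ fun l => ¬ J l) r = 1}
      one_mem' := ⟨1, 1, 0, (mul_one _).symm, one_mem _, one_mem _, one_mem _,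
        fun l _ => by
          change M.e 1 l = 0
          rw [e_one M]; rfl,
        fun l _ => by
          change M.e 1 l = _
          rw [e_one M]
          apply ext2 <;> simp,
        map_one _⟩
      mul_mem' := by
        rintro a b ⟨r, d, s, rfl, hd, hr1, hr2, hr3, hr4, hr5⟩ ⟨r', d', s', rfl, hd', hr1', hr2', hr3', hr4', hr5'⟩
        refine ⟨r * r', d * d', s + s', ?_, mul_mem hd hd', mul_mem hr1 hr1', mul_mem hr2 hr2', fun l hl => ?_,
          fun l hl => ?_, ?_⟩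
        · change (r : G) * d * (r' * d') = (r : G) * r' * (d * d')
          have h4 := Sd.V_comm hG S h (hEV d hd) hr2'
          calc (r : G) * d * (r' * d') = r * (d * r') * d' := by group
            _ = r * (r' * d) * d' := by rw [h4]
            _ = (r : G) * r' * (d * d') := by group
        · change M.e ((r : G) * r') l = 0
          rw [M.mul _ hr2 _ hr2', Pi.add_apply, hr3 l hl, hr3' l hl, add_zero]
        · change M.e ((r : G) * r') l = _
          rw [M.mul _ hr2 _ hr2', Pi.add_apply, hr4 l hl, hr4' l hl]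
          apply ext2 <;> simp
        · rw [map_mul, hr5, hr5', one_mul]
      inv_mem' := by
        rintro a ⟨r, d, s, rfl, hd, hr1, hr2, hr3, hr4, hr5⟩
        refine ⟨r⁻¹, d⁻¹, -s, ?_, inv_mem hd, inv_mem hr1, inv_mem hr2, fun l hl => ?_,
          fun l hl => ?_, ?_⟩
        · change ((r : G) * d)⁻¹ = (r : G)⁻¹ * d⁻¹
          rw [mul_inv_rev]
          exact Sd.V_comm hG S h (inv_mem (hEV d hd)) (inv_mem hr2)
        · change M.e (r : G)⁻¹ l = 0
          rw [e_inv M hr2, Pi.neg_apply, hr3 l hl, neg_zero]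
        · change M.e (r : G)⁻¹ l = _
          rw [e_inv M hr2, Pi.neg_apply, hr4 l hl]
          apply ext2 <;> simp
        · rw [map_inv, hr5, inv_one] }
  have hmem : ∀ (s : F) (d : ↥E), ((rr s : ↥(zc (o2 P))) : G) * d ∈ X := fun s d =>
    ⟨rr s, d, s, rfl, d.2, hrU s, (mem_VA S).1 (hrV s), hrJ s, hrN s, hrL s⟩
  refine ⟨X, ?_, ?_, ?_⟩
  · rintro _ ⟨r, d, s, rfl, hd, hr1, -⟩
    exact mul_mem hr1 (hEU hd)
  · have hinj : Function.Injective (fun x : F × ↥E => (⟨((rr x.1 : ↥(zc (o2 P))) : G) * x.2, hmem x.1 x.2⟩ : X)) := by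
      rintro ⟨s, d⟩ ⟨s', d'⟩ heq
      have h1 : ((rr s : ↥(zc (o2 P))) : G) * d = (rr s' : ↥(zc (o2 P))) * d' := congrArg Subtype.val heq
      have hd0 : ∀ d : ↥E, M.e (d : G) = 0 := fun d => (M.ker _ (hEV d d.2)).2 (hED d.2)
      have h2 := congrArg (fun a => M.e a l₀ 0) h1
      simp only [M.mul _ ((mem_VA S).1 (hrV s)) _ (hEV d d.2), M.mul _ ((mem_VA S).1 (hrV s')) _ (hEV d' d'.2),
        Pi.add_apply, hd0, Pi.zero_apply, add_zero, hrN _ l₀ hl₀, Matrix.cons_val_zero] at h2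
      subst h2
      have h4 := mul_left_cancel h1
      rw [Subtype.ext h4]
    have h5 := Nat.card_le_card_of_injective _ hinj
    rw [Nat.card_prod] at h5
    have h6 : 2 ≤ Nat.card ↥E := by
      by_contra hcon
      have h7 : 0 < Nat.card ↥E := Nat.card_pos
      have h8 : Nat.card ↥E = 1 := by omega
      exact hE (Subgroup.card_eq_one.1 h8)
    have h9 : 0 < Nat.card F := Nat.card_pos
    nlinarith
  · rintro _ ⟨r, d, s, rfl, hd, hr1, hr2, hr3, hr4, hr5⟩
    refine ⟨r, d, rfl, hd, hr2, hr3, fun l => ?_, hr5, ?_⟩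
    · by_cases hl : J l
      · rw [hr3 l hl]; rfl
      · rw [hr4 l hl]
        simp
    · by_cases hs : s = 0
      · right
        have h0 : ∀ l ∈ LJ fun l => ¬ J l, M.e (r : G) l = 0 := by
          intro l hl
          rw [hr4 l (mem_LJ.1 hl), hs]
          apply ext2 <;> simp
        rw [← eL_of_coord hG S h hk M hF ((mem_VA S).2 hr2) h0, hr5]
      · left
        intro l hl h0
        rw [hr4 l hl] at h0
        have h1 := congrFun h0 0
        simp at h1
        exact hs h1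

end main

end Cfsg.Agent.Omega.NOThreeL.KTwo

end
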